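import Cfsg.Agent.Lib.Cert.T2.M
import Cfsg.Agent.Lib.Cert.Fix

set_option autoImplicit false
set_option maxRecDepth 100000

namespace Cfsg.Agent.Ct.T2c

open Cfsg.Agent.PC

open Cfsg.Agent.Fi Cfsg.Agent.Ct
open Cfsg.Agent.Ct.T2
def W3_t : TL := (TL.node (TL.node (TL.node (TL.node (TL.leaf [nat_lit 3, nat_lit 6, nat_lit 7, nat_lit 6, nat_lit 0, nat_lit 5, nat_lit 6, nat_lit 7, nat_lit 6, nat_lit 5, nat_lit 6, nat_lit 5, nat_lit 6, nat_lit 5, nat_lit 6, nat_lit 5, nat_lit 7, nat_lit 6, nat_lit 5, nat_lit 4, nat_lit 5, nat_lit 6, nat_lit 7, nat_lit 6, nat_lit 5, nat_lit 6, nat_lit 1, nat_lit 5, nat_lit 6, nat_lit 0, nat_lit 4, nat_lit 7, nat_lit 6, nat_lit 5, nat_lit 1, nat_lit 6, nat_lit 5, nat_lit 6, nat_lit 3, nat_lit 5, nat_lit 6, nat_lit 7, nat_lit 5, nat_lit 4, nat_lit 3]) (TL.leaf [nat_lit 2])) (TL.node (TL.leaf [nat_lit 7, nat_lit 0, nat_lit 3, nat_lit 5, nat_lit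 6, nat_lit 5, nat_lit 6, nat_lit 5, nat_lit 6, nat_lit 5, nat_lit 7, nat_lit 6, nat_lit 5, nat_lit 7, nat_lit 0, nat_lit 5, nat_lit 6, nat_lit 7, nat_lit 5, nat_lit 6, nat_lit 5, nat_lit 6, nat_lit 5, nat_lit 6, nat_lit 5, nat_lit 2, nat_lit 7, nat_lit 0, nat_lit 6, nat_lit 5, nat_lit 2, nat_lit 6, nat_lit 5, nat_lit 6, nat_lit 5, nat_lit 0, nat_lit 7, nat_lit 4, nat_lit 7]) (TL.leaf [nat_lit 6]))) (TL.node (TL.node (TL.leaf [nat_lit 3, nat_lit 6, nat_lit 7, nat_lit 6, nat_lit 0, nat_lit 5, nat_lit 6, nat_lit 7, nat_lit 6, nat_lit 5, nat_lit 6, nat_lit 5, nat_lit 6, nat_lit 5, nat_lit 6, nat_lit 5, nat_lit 7, nat_lit 6, nat_lit 5, nat_lit 4, nat_lit 5, nat_lit 6, nat_lit 7, nat_lit 6, nat_lit 5, nat_lit 6, nat_lit 1, nat_lit 5, nat_lit 6, nat_lit 7, nat_lit 6, nat_lit 2, nat_lit 6, nat_lit 5, nat_lit 6, nat_lit 5, nat_lit 7, nat_lit 0, nat_lit 6, nat_lit 2, nat_lit 4])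 (TL.leaf [nat_lit 4])) (TL.leaf [nat_lit 0]))) (TL.node (TL.node (TL.node (TL.leaf [nat_lit 6, nat_lit 7, nat_lit 6, nat_lit 7, nat_lit 5, nat_lit 6, nat_lit 7, nat_lit 6, nat_lit 2, nat_lit 5, nat_lit 6, nat_lit 5, nat_lit 6, nat_lit 5, nat_lit 6, nat_lit 5, nat_lit 7, nat_lit 6, nat_lit 5, nat_lit 4, nat_lit 7, nat_lit 0, nat_lit 5, nat_lit 6, nat_lit 3, nat_lit 7, nat_lit 6, nat_lit 7, nat_lit 2, nat_lit 6, nat_lit 5, nat_lit 6, nat_lit 5, nat_lit 2, nat_lit 6, nat_lit 7, nat_lit 6, nat_lit 5]) (TL.leaf [nat_lit 3])) (TL.node (TL.leaf [nat_lit 3, nat_lit 6, nat_lit 7, nat_lit 6, nat_lit 0, nat_lit 5, nat_lit 6, nat_lit 7, nat_lit 6, nat_lit 5, nat_lit 6, nat_lit 5, nat_lit 6, nat_lit 5, nat_lit 6, nat_lit 5, nat_lit 7, nat_lit 6, nat_lit 5, nat_lit 4, nat_lit 6, nat_lit 5, nat_lit 6, nat_lit 2, nat_lit 7, nat_lit 5, nat_lit 6, nat_lit 7, nat_lit 6]) (TL.leaf [nat_lit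 7]))) (TL.node (TL.node (TL.leaf [nat_lit 6, nat_lit 5, nat_lit 6, nat_lit 5, nat_lit 6, nat_lit 1, nat_lit 7, nat_lit 6, nat_lit 5, nat_lit 6, nat_lit 5]) (TL.leaf [nat_lit 5])) (TL.leaf [nat_lit 1]))))
noncomputable def W3 (i : ℕ) : List ℕ := TL.get W3_t i
noncomputable def q3 (j : ℕ) : P := ev al (W3 j)
noncomputable def Q3 (j : ℕ) : ℕ → ℕ := trF T (W3 j)
theorem md3 : Md pt 1755 B0 q3 Q3 14 := md0.words' (by decide +kernel)
def R3_t1 : TL := (TL.node (TL.node (TL.node (TL.node (TL.node (TL.node (TL.leaf []) (TL.leaf [nat_lit 0])) (TL.leaf [nat_lit 0])) (TL.node (TL.node (TL.leaf []) (TL.leaf [])) (TL.leaf []))) (TL.node (TL.node (TL.node (TL.leaf []) (TL.leaf [])) (TL.leaf [])) (TL.node (TL.node (TL.leaf []) (TL.leaf [])) (TL.leaf [])))) (TL.node (TL.node (TL.node (TL.node (TL.leaf []) (TL.leaf [])) (TL.leaf [])) (TL.node (TL.node (TL.leaf []) (TL.leaf [])) (TL.leaf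 []))) (TL.node (TL.node (TL.node (TL.leaf []) (TL.leaf [])) (TL.leaf [])) (TL.node (TL.node (TL.leaf []) (TL.leaf [])) (TL.leaf []))))) (TL.node (TL.node (TL.node (TL.node (TL.node (TL.leaf []) (TL.leaf [])) (TL.leaf [])) (TL.node (TL.node (TL.leaf []) (TL.leaf [])) (TL.leaf []))) (TL.node (TL.node (TL.node (TL.leaf []) (TL.leaf [])) (TL.leaf [])) (TL.node (TL.node (TL.leaf []) (TL.leaf [])) (TL.leaf [])))) (TL.node (TL.node (TL.node (TL.node (TL.leaf []) (TL.leaf [])) (TL.leaf [])) (TL.node (TL.node (TL.leaf []) (TL.leaf [])) (TL.leaf []))) (TL.node (TL.node (TL.node (TL.leaf []) (TL.leaf [])) (TL.leaf [])) (TL.node (TL.node (TL.leaf []) (TL.leaf [])) (TL.leaf []))))))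
def R3_t2 : TL := (TL.node (TL.node (TL.node (TL.node (TL.node (TL.node (TL.leaf []) (TL.leaf [nat_lit 0, nat_lit 1])) (TL.leaf [])) (TL.node (TL.node (TL.leaf []) (TL.leaf [])) (TL.leaf []))) (TL.node (TL.node (TL.node (TL.leaf []) (TL.leaf [])) (TL.leaf [])) (TL.node (TL.node (TL.leaf []) (TL.leaf [])) (TL.leaf [])))) (TL.node (TL.node (TL.node (TL.node (TL.leaf []) (TL.leaf [])) (TL.leaf [])) (TL.node (TL.node (TL.leaf []) (TL.leaf [])) (TL.leaf []))) (TL.node (TL.node (TL.node (TL.leaf []) (TL.leaf [])) (TL.leaf [])) (TL.node (TL.node (TL.leaf []) (TL.leaf [])) (TL.leaf []))))) (TL.node (TL.node (TL.node (TL.node (TL.node (TL.leaf []) (TL.leaf [])) (TL.leaf [])) (TL.node (TL.node (TL.leaf []) (TL.leaf [])) (TL.leaf []))) (TL.node (TL.node (TL.node (TL.leaf []) (TL.leaf [])) (TL.leaf [])) (TL.node (TL.node (TL.leaf []) (TL.leaf [])) (TL.leaf [])))) (TL.node (TL.node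 (TL.node (TL.node (TL.leaf []) (TL.leaf [])) (TL.leaf [])) (TL.node (TL.node (TL.leaf []) (TL.leaf [])) (TL.leaf []))) (TL.node (TL.node (TL.node (TL.leaf []) (TL.leaf [])) (TL.leaf [])) (TL.node (TL.node (TL.leaf []) (TL.leaf [])) (TL.leaf []))))))
def R3_t : TL := (TL.node R3_t1 R3_t2)
noncomputable def R3 (i : ℕ) : List ℕ := TL.get R3_t i
def Zm3 (i : ℕ) : ℕ := Nat.land (Nat.shiftRight (nat_lit 0) (Nat.mul (nat_lit 1) i)) (nat_lit 1)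
def K3_t : TL := (TL.node (TL.node (TL.node (TL.node (TL.node (TL.leaf []) (TL.leaf [nat_lit 12, nat_lit 13, nat_lit 12, nat_lit 11, nat_lit 6, nat_lit 9, nat_lit 12, nat_lit 13, nat_lit 12, nat_lit 9, nat_lit 11, nat_lit 12, nat_lit 11, nat_lit 12, nat_lit 11, nat_lit 12, nat_lit 11, nat_lit 13, nat_lit 12, nat_lit 11, nat_lit 10, nat_lit 12, nat_lit 13, nat_lit 10, nat_lit 12, nat_lit 10, nat_lit 13, nat_lit 11, nat_lit 10, nat_lit 12, nat_lit 11, nat_lit 8, nat_lit 12, nat_lit 11, nat_lit 10])) (TL.node (TL.leaf [nat_lit 10, nat_lit 13, nat_lit 10, nat_lit 13, nat_lit 7, nat_lit 12, nat_lit 13, nat_lit 12, nat_lit 11, nat_lit 12, nat_lit 13, nat_lit 11, nat_lit 12, nat_lit 11, nat_lit 12, nat_lit 13, nat_lit 12, nat_lit 11, nat_lit 9, nat_lit 6, nat_lit 13, nat_lit 12, nat_lit 7, nat_lit 9]) (TL.leaf [nat_lit 10, nat_lit 13, nat_lit 10, nat_lit 13, nat_lit 9, nat_lit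 12, nat_lit 13, nat_lit 12, nat_lit 8, nat_lit 12, nat_lit 13, nat_lit 12, nat_lit 11, nat_lit 12, nat_lit 11, nat_lit 12, nat_lit 11, nat_lit 12, nat_lit 11, nat_lit 13, nat_lit 12, nat_lit 11, nat_lit 13, nat_lit 6, nat_lit 12, nat_lit 11, nat_lit 9, nat_lit 12, nat_lit 11, nat_lit 13]))) (TL.node (TL.node (TL.leaf [nat_lit 10, nat_lit 13, nat_lit 10, nat_lit 6, nat_lit 11, nat_lit 12, nat_lit 13, nat_lit 12, nat_lit 11, nat_lit 12, nat_lit 7, nat_lit 11, nat_lit 12, nat_lit 13, nat_lit 12, nat_lit 9, nat_lit 12, nat_lit 11, nat_lit 12, nat_lit 11, nat_lit 12, nat_lit 11, nat_lit 13, nat_lit 12, nat_lit 11, nat_lit 10, nat_lit 12, nat_lit 11, nat_lit 13, nat_lit 12, nat_lit 9, nat_lit 12, nat_lit 13, nat_lit 12, nat_lit 11, nat_lit 13, nat_lit 12]) (TL.leaf [nat_lit 10, nat_lit 13, nat_lit 10, nat_lit 13, nat_lit 10, nat_lit 11, nat_lit 12, nat_lit 13, nat_lit 11,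 nat_lit 12, nat_lit 11, nat_lit 12, nat_lit 11, nat_lit 12, nat_lit 8, nat_lit 12, nat_lit 9, nat_lit 13, nat_lit 12, nat_lit 13, nat_lit 8, nat_lit 11, nat_lit 8, nat_lit 12, nat_lit 13, nat_lit 12, nat_lit 11, nat_lit 8, nat_lit 10, nat_lit 13])) (TL.leaf [nat_lit 9, nat_lit 12, nat_lit 13, nat_lit 12, nat_lit 9, nat_lit 12, nat_lit 13, nat_lit 12, nat_lit 8, nat_lit 10, nat_lit 11, nat_lit 12, nat_lit 13, nat_lit 11, nat_lit 10, nat_lit 8, nat_lit 12, nat_lit 11, nat_lit 12, nat_lit 11, nat_lit 12, nat_lit 11, nat_lit 12, nat_lit 11, nat_lit 13, nat_lit 12, nat_lit 11, nat_lit 10, nat_lit 12, nat_lit 10, nat_lit 9, nat_lit 12, nat_lit 11, nat_lit 12, nat_lit 11, nat_lit 12, nat_lit 10, nat_lit 13, nat_lit 6]))) (TL.node (TL.node (TL.node (TL.leaf [nat_lit 10, nat_lit 13, nat_lit 10, nat_lit 6, nat_lit 9, nat_lit 11, nat_lit 12, nat_lit 11, nat_lit 12, nat_lit 11,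 nat_lit 12, nat_lit 11, nat_lit 13, nat_lit 12, nat_lit 11, nat_lit 10, nat_lit 13, nat_lit 6, nat_lit 12, nat_lit 13, nat_lit 10, nat_lit 13, nat_lit 12, nat_lit 9, nat_lit 11, nat_lit 12, nat_lit 11, nat_lit 12, nat_lit 11, nat_lit 12, nat_lit 11, nat_lit 13, nat_lit 12, nat_lit 11, nat_lit 12, nat_lit 13, nat_lit 9, nat_lit 12, nat_lit 13, nat_lit 10]) (TL.leaf [nat_lit 11, nat_lit 12, nat_lit 13, nat_lit 12, nat_lit 11, nat_lit 12, nat_lit 7, nat_lit 11, nat_lit 12, nat_lit 13, nat_lit 12, nat_lit 9, nat_lit 12, nat_lit 11, nat_lit 12, nat_lit 11, nat_lit 12, nat_lit 11, nat_lit 13, nat_lit 12, nat_lit 11, nat_lit 10, nat_lit 9, nat_lit 12, nat_lit 13, nat_lit 12, nat_lit 11, nat_lit 7, nat_lit 12, nat_lit 13, nat_lit 12, nat_lit 9, nat_lit 12, nat_lit 13, nat_lit 10, nat_lit 9])) (TL.node (TL.leaf [nat_lit 10, nat_lit 13, nat_lit 10, nat_lit 13, nat_lit 11, nat_lit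 12, nat_lit 11, nat_lit 8, nat_lit 12, nat_lit 13, nat_lit 12, nat_lit 11, nat_lit 12, nat_lit 9, nat_lit 13, nat_lit 12, nat_lit 11, nat_lit 12, nat_lit 6, nat_lit 11, nat_lit 12, nat_lit 11, nat_lit 12, nat_lit 13, nat_lit 12, nat_lit 8, nat_lit 6, nat_lit 13, nat_lit 11, nat_lit 12, nat_lit 13, nat_lit 12, nat_lit 10, nat_lit 11, nat_lit 12, nat_lit 13, nat_lit 11, nat_lit 12, nat_lit 11, nat_lit 12, nat_lit 11, nat_lit 12, nat_lit 11, nat_lit 8, nat_lit 13, nat_lit 6, nat_lit 11, nat_lit 12, nat_lit 8, nat_lit 13]) (TL.leaf [nat_lit 11, nat_lit 12, nat_lit 13, nat_lit 12, nat_lit 9, nat_lit 10, nat_lit 6, nat_lit 12, nat_lit 13, nat_lit 12, nat_lit 11, nat_lit 6, nat_lit 9, nat_lit 13, nat_lit 11, nat_lit 12, nat_lit 11, nat_lit 12, nat_lit 11, nat_lit 12, nat_lit 11, nat_lit 13, nat_lit 12, nat_lit 11, nat_lit 10, nat_lit 8, nat_lit 12, nat_lit 11, nat_lit 12, nat_lit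 13, nat_lit 12, nat_lit 11, nat_lit 10, nat_lit 12, nat_lit 8, nat_lit 10, nat_lit 12, nat_lit 11, nat_lit 10]))) (TL.node (TL.node (TL.leaf [nat_lit 10, nat_lit 13, nat_lit 10, nat_lit 13, nat_lit 9, nat_lit 11, nat_lit 12, nat_lit 11, nat_lit 12, nat_lit 11, nat_lit 12, nat_lit 11, nat_lit 13, nat_lit 12, nat_lit 11, nat_lit 10, nat_lit 13, nat_lit 8, nat_lit 12, nat_lit 13, nat_lit 12, nat_lit 11, nat_lit 12, nat_lit 13, nat_lit 12, nat_lit 7, nat_lit 11, nat_lit 12, nat_lit 11, nat_lit 12, nat_lit 11, nat_lit 12, nat_lit 11, nat_lit 13, nat_lit 12, nat_lit 11, nat_lit 10, nat_lit 11, nat_lit 12, nat_lit 11, nat_lit 12, nat_lit 11, nat_lit 12, nat_lit 13, nat_lit 10, nat_lit 12, nat_lit 6, nat_lit 11, nat_lit 12, nat_lit 7, nat_lit 11, nat_lit 10, nat_lit 13]) (TL.leaf [nat_lit 9, nat_lit 12, nat_lit 13, nat_lit 12, nat_lit 11, nat_lit 12, nat_lit 13, nat_lit 12,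 nat_lit 8, nat_lit 11, nat_lit 7, nat_lit 13, nat_lit 12, nat_lit 11, nat_lit 12, nat_lit 11, nat_lit 13, nat_lit 12, nat_lit 11, nat_lit 10, nat_lit 8])) (TL.leaf [nat_lit 7, nat_lit 12, nat_lit 11, nat_lit 12, nat_lit 8, nat_lit 13, nat_lit 12, nat_lit 8, nat_lit 13, nat_lit 11, nat_lit 12, nat_lit 11, nat_lit 12, nat_lit 8, nat_lit 12, nat_lit 13, nat_lit 12, nat_lit 11, nat_lit 7, nat_lit 12, nat_lit 11, nat_lit 12, nat_lit 13, nat_lit 12, nat_lit 11, nat_lit 12, nat_lit 13, nat_lit 12, nat_lit 11, nat_lit 6, nat_lit 9, nat_lit 13, nat_lit 12, nat_lit 13, nat_lit 12, nat_lit 9, nat_lit 11, nat_lit 12, nat_lit 11, nat_lit 12, nat_lit 11, nat_lit 12, nat_lit 11, nat_lit 13, nat_lit 12, nat_lit 11, nat_lit 10, nat_lit 11, nat_lit 12, nat_lit 13, nat_lit 12, nat_lit 13])))) (TL.node (TL.node (TL.node (TL.node (TL.leaf [nat_lit 12, nat_lit 13, nat_lit 12, nat_lit 11,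 nat_lit 9, nat_lit 12, nat_lit 13, nat_lit 12, nat_lit 13, nat_lit 10, nat_lit 11, nat_lit 12, nat_lit 13, nat_lit 11, nat_lit 12, nat_lit 11, nat_lit 12, nat_lit 11, nat_lit 12, nat_lit 11, nat_lit 8, nat_lit 8, nat_lit 12, nat_lit 13, nat_lit 10, nat_lit 12, nat_lit 8, nat_lit 12, nat_lit 13, nat_lit 12, nat_lit 9, nat_lit 12, nat_lit 11, nat_lit 9, nat_lit 12, nat_lit 13, nat_lit 12, nat_lit 11]) (TL.leaf [nat_lit 10, nat_lit 13, nat_lit 6, nat_lit 11, nat_lit 12, nat_lit 13, nat_lit 11, nat_lit 12, nat_lit 11, nat_lit 12, nat_lit 11, nat_lit 12, nat_lit 11, nat_lit 8, nat_lit 10, nat_lit 13, nat_lit 10, nat_lit 12, nat_lit 10, nat_lit 13, nat_lit 12, nat_lit 9])) (TL.node (TL.leaf [nat_lit 7, nat_lit 12, nat_lit 11, nat_lit 12, nat_lit 8, nat_lit 13, nat_lit 12, nat_lit 8, nat_lit 13, nat_lit 12, nat_lit 11, nat_lit 13, nat_lit 12, nat_lit 11, nat_lit 10, nat_lit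 12, nat_lit 13, nat_lit 10, nat_lit 13, nat_lit 12, nat_lit 11, nat_lit 12, nat_lit 11, nat_lit 12, nat_lit 11, nat_lit 12, nat_lit 9, nat_lit 13, nat_lit 11, nat_lit 12, nat_lit 7, nat_lit 9, nat_lit 13, nat_lit 11]) (TL.leaf [nat_lit 9, nat_lit 11, nat_lit 12, nat_lit 11, nat_lit 12, nat_lit 11, nat_lit 12, nat_lit 11, nat_lit 13, nat_lit 12, nat_lit 11, nat_lit 10, nat_lit 9, nat_lit 11, nat_lit 12, nat_lit 11, nat_lit 12, nat_lit 11, nat_lit 12, nat_lit 11, nat_lit 13, nat_lit 12, nat_lit 11, nat_lit 13, nat_lit 10, nat_lit 12, nat_lit 11, nat_lit 12, nat_lit 11, nat_lit 12, nat_lit 13, nat_lit 11, nat_lit 12, nat_lit 9]))) (TL.node (TL.node (TL.leaf [nat_lit 11, nat_lit 12, nat_lit 13, nat_lit 12, nat_lit 11, nat_lit 7, nat_lit 12, nat_lit 11, nat_lit 12, nat_lit 13, nat_lit 12, nat_lit 8, nat_lit 12, nat_lit 11, nat_lit 13, nat_lit 12, nat_lit 6, nat_lit 11, nat_lit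 12, nat_lit 11, nat_lit 12, nat_lit 11, nat_lit 8, nat_lit 13, nat_lit 6, nat_lit 7, nat_lit 12, nat_lit 13, nat_lit 12, nat_lit 11, nat_lit 12, nat_lit 13, nat_lit 12, nat_lit 10, nat_lit 11, nat_lit 12, nat_lit 8, nat_lit 11, nat_lit 13, nat_lit 12, nat_lit 11]) (TL.leaf [nat_lit 13, nat_lit 6, nat_lit 11, nat_lit 12, nat_lit 9, nat_lit 13, nat_lit 12, nat_lit 13, nat_lit 8, nat_lit 12, nat_lit 9, nat_lit 12, nat_lit 11, nat_lit 12, nat_lit 11, nat_lit 12, nat_lit 11, nat_lit 13, nat_lit 12, nat_lit 10, nat_lit 6, nat_lit 8, nat_lit 12, nat_lit 11, nat_lit 12, nat_lit 11, nat_lit 7, nat_lit 12, nat_lit 13, nat_lit 12])) (TL.leaf [nat_lit 13, nat_lit 6, nat_lit 10, nat_lit 11, nat_lit 12, nat_lit 13, nat_lit 11, nat_lit 12, nat_lit 11, nat_lit 12, nat_lit 11, nat_lit 12, nat_lit 11, nat_lit 7, nat_lit 12, nat_lit 13, nat_lit 12, nat_lit 9, nat_lit 12, nat_lit 13, nat_lit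 12, nat_lit 9, nat_lit 12, nat_lit 11, nat_lit 12, nat_lit 13, nat_lit 12, nat_lit 11, nat_lit 13, nat_lit 12, nat_lit 13, nat_lit 7]))) (TL.node (TL.node (TL.node (TL.leaf [nat_lit 13, nat_lit 6, nat_lit 9, nat_lit 11, nat_lit 12, nat_lit 11, nat_lit 12, nat_lit 11, nat_lit 12, nat_lit 11, nat_lit 13, nat_lit 12, nat_lit 11, nat_lit 10, nat_lit 7, nat_lit 12, nat_lit 13, nat_lit 12, nat_lit 11, nat_lit 12, nat_lit 13, nat_lit 12, nat_lit 9, nat_lit 11, nat_lit 12, nat_lit 11, nat_lit 12, nat_lit 11, nat_lit 12, nat_lit 11, nat_lit 13, nat_lit 12, nat_lit 11, nat_lit 10, nat_lit 13, nat_lit 12, nat_lit 11, nat_lit 12, nat_lit 11, nat_lit 12, nat_lit 13, nat_lit 10, nat_lit 7, nat_lit 13]) (TL.leaf [nat_lit 10, nat_lit 13, nat_lit 10, nat_lit 13, nat_lit 11, nat_lit 12, nat_lit 9, nat_lit 13, nat_lit 12, nat_lit 13, nat_lit 8, nat_lit 12, nat_lit 9, nat_lit 12, nat_lit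 11, nat_lit 12, nat_lit 11, nat_lit 12, nat_lit 11, nat_lit 13, nat_lit 12, nat_lit 11, nat_lit 10, nat_lit 7, nat_lit 12, nat_lit 13, nat_lit 12, nat_lit 11, nat_lit 12, nat_lit 13, nat_lit 11, nat_lit 8, nat_lit 12, nat_lit 13, nat_lit 12, nat_lit 13, nat_lit 10])) (TL.leaf [nat_lit 10, nat_lit 13, nat_lit 10, nat_lit 13, nat_lit 9, nat_lit 12, nat_lit 13, nat_lit 12, nat_lit 9, nat_lit 12, nat_lit 13, nat_lit 11, nat_lit 12, nat_lit 11, nat_lit 12, nat_lit 11, nat_lit 12, nat_lit 9, nat_lit 12, nat_lit 13, nat_lit 8])) (TL.node (TL.node (TL.leaf [nat_lit 9, nat_lit 11, nat_lit 12, nat_lit 11, nat_lit 12, nat_lit 11, nat_lit 12, nat_lit 11, nat_lit 13, nat_lit 12, nat_lit 11, nat_lit 13, nat_lit 10, nat_lit 6, nat_lit 12, nat_lit 13, nat_lit 12, nat_lit 11, nat_lit 6, nat_lit 9, nat_lit 12, nat_lit 13, nat_lit 11, nat_lit 8, nat_lit 12, nat_lit 11, nat_lit 12, nat_lit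 13, nat_lit 12, nat_lit 9, nat_lit 12, nat_lit 9, nat_lit 11, nat_lit 6]) (TL.leaf [nat_lit 10, nat_lit 13, nat_lit 11, nat_lit 12, nat_lit 7, nat_lit 11, nat_lit 12, nat_lit 11, nat_lit 12, nat_lit 11, nat_lit 13, nat_lit 12, nat_lit 11, nat_lit 10, nat_lit 13, nat_lit 6, nat_lit 12, nat_lit 13, nat_lit 12, nat_lit 11, nat_lit 6, nat_lit 9, nat_lit 12, nat_lit 13, nat_lit 11, nat_lit 12, nat_lit 11, nat_lit 12, nat_lit 6, nat_lit 13, nat_lit 10, nat_lit 11, nat_lit 12, nat_lit 9])) (TL.leaf [nat_lit 10, nat_lit 13, nat_lit 6, nat_lit 11, nat_lit 12, nat_lit 13, nat_lit 11, nat_lit 12, nat_lit 11, nat_lit 12, nat_lit 11, nat_lit 12, nat_lit 11, nat_lit 7, nat_lit 13, nat_lit 12, nat_lit 13, nat_lit 12, nat_lit 10, nat_lit 7, nat_lit 13, nat_lit 12])))))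
noncomputable def K3 (i : ℕ) : List ℕ := TL.get K3_t i
theorem sy3 : Sy q3 3 3 R3 := md3.sy' (by decide) (by decide) (upTo_beq (by decide +kernel)) (pr := 27) (Z := Zm3) rfl (upTo_beq (by decide +kernel)) (by rw [card]; decide)
theorem fx3 (Ω : Type*) [Fintype Ω] [MulAction P Ω] : 27 ∣ Fintype.card Ω + 26 * Nat.card (MulAction.fixedBy Ω (q3 3)) :=
  md3.fix sy3 (by norm_num) (K := K3) (by decide) (upTo_beq (n := 27) (by decide +kernel)) Ω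
def W5_t : TL := (TL.node (TL.node (TL.node (TL.node (TL.leaf [nat_lit 1, nat_lit 6, nat_lit 5, nat_lit 6, nat_lit 2, nat_lit 7, nat_lit 6, nat_lit 2, nat_lit 7, nat_lit 6, nat_lit 5, nat_lit 7, nat_lit 6, nat_lit 5, nat_lit 4, nat_lit 5, nat_lit 6, nat_lit 7, nat_lit 6, nat_lit 3, nat_lit 4, nat_lit 0, nat_lit 6, nat_lit 7, nat_lit 5, nat_lit 6, nat_lit 5, nat_lit 6, nat_lit 2, nat_lit 7, nat_lit 6, nat_lit 7]) (TL.leaf [nat_lit 3])) (TL.node (TL.leaf [nat_lit 3, nat_lit 6, nat_lit 7, nat_lit 6, nat_lit 0, nat_lit 5, nat_lit 6, nat_lit 7, nat_lit 6, nat_lit 5, nat_lit 6, nat_lit 5, nat_lit 6, nat_lit 5, nat_lit 6, nat_lit 5, nat_lit 7, nat_lit 6, nat_lit 5, nat_lit 4, nat_lit 6, nat_lit 5, nat_lit 6, nat_lit 2, nat_lit 7, nat_lit 5, nat_lit 6, nat_lit 7, nat_lit 6]) (TL.leaf [nat_lit 7]))) (TL.node (TL.node (TL.leaf [nat_lit 6, nat_lit 5, nat_lit 6, nat_lit 5, nat_lit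 6, nat_lit 1, nat_lit 7, nat_lit 6, nat_lit 5, nat_lit 6, nat_lit 5]) (TL.leaf [nat_lit 5])) (TL.leaf [nat_lit 1]))) (TL.node (TL.node (TL.node (TL.leaf [nat_lit 7, nat_lit 0, nat_lit 3, nat_lit 5, nat_lit 6, nat_lit 5, nat_lit 6, nat_lit 5, nat_lit 6, nat_lit 5, nat_lit 7, nat_lit 6, nat_lit 5, nat_lit 6, nat_lit 7, nat_lit 6, nat_lit 5, nat_lit 4, nat_lit 6, nat_lit 7, nat_lit 6, nat_lit 5, nat_lit 6, nat_lit 5, nat_lit 7, nat_lit 6, nat_lit 5, nat_lit 6]) (TL.leaf [nat_lit 4])) (TL.leaf [nat_lit 0])) (TL.node (TL.node (TL.leaf [nat_lit 7, nat_lit 0, nat_lit 3, nat_lit 5, nat_lit 6, nat_lit 5, nat_lit 6, nat_lit 5, nat_lit 6, nat_lit 5, nat_lit 7, nat_lit 6, nat_lit 5, nat_lit 7, nat_lit 0, nat_lit 5, nat_lit 6, nat_lit 7, nat_lit 5, nat_lit 6, nat_lit 5, nat_lit 6, nat_lit 5, nat_lit 6, nat_lit 5, nat_lit 2, nat_lit 7, nat_lit 0, nat_lit 6, nat_lit 5, nat_lit 2, nat_lit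 6, nat_lit 5, nat_lit 6, nat_lit 5, nat_lit 0, nat_lit 7, nat_lit 4, nat_lit 7]) (TL.leaf [nat_lit 6])) (TL.leaf [nat_lit 2]))))
noncomputable def W5 (i : ℕ) : List ℕ := TL.get W5_t i
noncomputable def q5 (j : ℕ) : P := ev al (W5 j)
noncomputable def Q5 (j : ℕ) : ℕ → ℕ := trF T (W5 j)
theorem md5 : Md pt 1755 B0 q5 Q5 13 := md0.words' (by decide +kernel)
def R5_t : TL := (TL.node (TL.node (TL.node (TL.node (TL.node (TL.node (TL.leaf []) (TL.leaf [nat_lit 0])) (TL.node (TL.leaf []) (TL.leaf []))) (TL.node (TL.node (TL.leaf []) (TL.leaf [])) (TL.node (TL.leaf []) (TL.leaf [])))) (TL.node (TL.node (TL.node (TL.leaf []) (TL.leaf [])) (TL.node (TL.leaf []) (TL.leaf []))) (TL.node (TL.node (TL.leaf []) (TL.leaf [])) (TL.node (TL.leaf []) (TL.leaf []))))) (TL.node (TL.node (TL.node (TL.node (TL.leaf []) (TL.leaf [])) (TL.node (TL.leaf []) (TL.leaf []))) (TL.node (TL.node (TL.leaf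 []) (TL.leaf [])) (TL.node (TL.leaf []) (TL.leaf [])))) (TL.node (TL.node (TL.node (TL.leaf []) (TL.leaf [])) (TL.node (TL.leaf []) (TL.leaf []))) (TL.node (TL.node (TL.leaf []) (TL.leaf [])) (TL.node (TL.leaf []) (TL.leaf [])))))) (TL.node (TL.node (TL.node (TL.node (TL.node (TL.leaf []) (TL.leaf [])) (TL.node (TL.leaf []) (TL.leaf []))) (TL.node (TL.node (TL.leaf []) (TL.leaf [])) (TL.node (TL.leaf []) (TL.leaf [])))) (TL.node (TL.node (TL.node (TL.leaf []) (TL.leaf [])) (TL.node (TL.leaf []) (TL.leaf []))) (TL.node (TL.node (TL.leaf []) (TL.leaf [])) (TL.node (TL.leaf []) (TL.leaf []))))) (TL.node (TL.node (TL.node (TL.node (TL.leaf []) (TL.leaf [])) (TL.node (TL.leaf []) (TL.leaf []))) (TL.node (TL.node (TL.leaf []) (TL.leaf [])) (TL.node (TL.leaf []) (TL.leaf [])))) (TL.node (TL.node (TL.node (TL.leaf []) (TL.leaf [])) (TL.node (TL.leaf []) (TL.leaf []))) (TL.node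 (TL.node (TL.leaf []) (TL.leaf [])) (TL.node (TL.leaf []) (TL.leaf [])))))))
noncomputable def R5 (i : ℕ) : List ℕ := TL.get R5_t i
def Zm5 (i : ℕ) : ℕ := Nat.land (Nat.shiftRight (nat_lit 0) (Nat.mul (nat_lit 1) i)) (nat_lit 1)
def K5_t : TL := (TL.node (TL.node (TL.node (TL.node (TL.node (TL.leaf []) (TL.leaf [nat_lit 11, nat_lit 12, nat_lit 11, nat_lit 10, nat_lit 5, nat_lit 8, nat_lit 11, nat_lit 12, nat_lit 11, nat_lit 10, nat_lit 11, nat_lit 12, nat_lit 11, nat_lit 10, nat_lit 6, nat_lit 11, nat_lit 10, nat_lit 11, nat_lit 12, nat_lit 11, nat_lit 8, nat_lit 11, nat_lit 10, nat_lit 11, nat_lit 10, nat_lit 11, nat_lit 10, nat_lit 12, nat_lit 11, nat_lit 10, nat_lit 9, nat_lit 6, nat_lit 11, nat_lit 12, nat_lit 8, nat_lit 11, nat_lit 10, nat_lit 5])) (TL.node (TL.leaf [nat_lit 12, nat_lit 5, nat_lit 8, nat_lit 10, nat_lit 11, nat_lit 10, nat_lit 11, nat_lit 10, nat_lit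 11, nat_lit 10, nat_lit 12, nat_lit 11, nat_lit 10, nat_lit 9, nat_lit 12, nat_lit 5, nat_lit 7, nat_lit 11, nat_lit 12, nat_lit 11, nat_lit 8, nat_lit 11, nat_lit 12, nat_lit 11, nat_lit 8, nat_lit 10, nat_lit 11, nat_lit 10, nat_lit 11, nat_lit 10, nat_lit 11, nat_lit 9, nat_lit 10, nat_lit 11, nat_lit 8, nat_lit 10, nat_lit 5]) (TL.leaf [nat_lit 9, nat_lit 12, nat_lit 9, nat_lit 12, nat_lit 8, nat_lit 11, nat_lit 12, nat_lit 11, nat_lit 8, nat_lit 11, nat_lit 12, nat_lit 11, nat_lit 10, nat_lit 11, nat_lit 10, nat_lit 11, nat_lit 10, nat_lit 11, nat_lit 10, nat_lit 12, nat_lit 11, nat_lit 6, nat_lit 9, nat_lit 12, nat_lit 8, nat_lit 11, nat_lit 8, nat_lit 12, nat_lit 11, nat_lit 12, nat_lit 10, nat_lit 11, nat_lit 5, nat_lit 10]))) (TL.node (TL.node (TL.leaf [nat_lit 10, nat_lit 11, nat_lit 8, nat_lit 12, nat_lit 11, nat_lit 12, nat_lit 7, nat_lit 11, nat_lit 8, nat_lit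 11, nat_lit 10, nat_lit 11, nat_lit 10, nat_lit 11, nat_lit 10, nat_lit 12, nat_lit 11, nat_lit 10, nat_lit 9, nat_lit 12, nat_lit 7, nat_lit 11, nat_lit 12, nat_lit 11, nat_lit 8, nat_lit 11, nat_lit 12, nat_lit 11, nat_lit 8, nat_lit 10, nat_lit 11, nat_lit 10, nat_lit 11, nat_lit 12, nat_lit 10, nat_lit 11, nat_lit 5, nat_lit 10]) (TL.leaf [nat_lit 11, nat_lit 12, nat_lit 9, nat_lit 12, nat_lit 11, nat_lit 8, nat_lit 10, nat_lit 11, nat_lit 10, nat_lit 11, nat_lit 10, nat_lit 11, nat_lit 9, nat_lit 7, nat_lit 11, nat_lit 10, nat_lit 11, nat_lit 10, nat_lit 11, nat_lit 10, nat_lit 7, nat_lit 11, nat_lit 10, nat_lit 7, nat_lit 11, nat_lit 12, nat_lit 11, nat_lit 10, nat_lit 11, nat_lit 5])) (TL.leaf [nat_lit 11, nat_lit 12, nat_lit 11, nat_lit 9, nat_lit 10, nat_lit 9, nat_lit 11, nat_lit 12, nat_lit 11, nat_lit 10, nat_lit 11, nat_lit 10, nat_lit 11, nat_lit 10, nat_lit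 11, nat_lit 12, nat_lit 8, nat_lit 11, nat_lit 12, nat_lit 7, nat_lit 9, nat_lit 8, nat_lit 8, nat_lit 5, nat_lit 12, nat_lit 10]))) (TL.node (TL.node (TL.node (TL.leaf [nat_lit 11, nat_lit 12, nat_lit 11, nat_lit 10, nat_lit 11, nat_lit 12, nat_lit 11, nat_lit 10, nat_lit 11, nat_lit 5, nat_lit 10, nat_lit 11, nat_lit 12, nat_lit 11, nat_lit 10, nat_lit 11, nat_lit 8, nat_lit 10, nat_lit 11, nat_lit 10, nat_lit 11, nat_lit 8, nat_lit 10, nat_lit 12, nat_lit 9, nat_lit 12, nat_lit 11, nat_lit 8, nat_lit 10, nat_lit 11, nat_lit 10, nat_lit 11, nat_lit 10, nat_lit 11, nat_lit 10, nat_lit 11, nat_lit 10, nat_lit 5, nat_lit 11, nat_lit 10, nat_lit 8, nat_lit 11, nat_lit 10, nat_lit 11]) (TL.leaf [nat_lit 10, nat_lit 11, nat_lit 10, nat_lit 7, nat_lit 11, nat_lit 12, nat_lit 11, nat_lit 10, nat_lit 11, nat_lit 8, nat_lit 12, nat_lit 11, nat_lit 10, nat_lit 11, nat_lit 5,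 nat_lit 10, nat_lit 11, nat_lit 10, nat_lit 8, nat_lit 11, nat_lit 12, nat_lit 11, nat_lit 8, nat_lit 11, nat_lit 12, nat_lit 10, nat_lit 11, nat_lit 10, nat_lit 9, nat_lit 10, nat_lit 8, nat_lit 12, nat_lit 11, nat_lit 10, nat_lit 5, nat_lit 11, nat_lit 7, nat_lit 11, nat_lit 6])) (TL.leaf [nat_lit 11, nat_lit 10, nat_lit 7, nat_lit 11, nat_lit 10, nat_lit 11, nat_lit 10, nat_lit 7, nat_lit 11, nat_lit 10, nat_lit 11, nat_lit 12, nat_lit 11, nat_lit 10, nat_lit 11, nat_lit 10, nat_lit 5, nat_lit 6, nat_lit 11, nat_lit 12, nat_lit 11, nat_lit 10, nat_lit 11, nat_lit 12, nat_lit 11, nat_lit 9, nat_lit 10, nat_lit 11, nat_lit 12, nat_lit 10, nat_lit 11, nat_lit 7, nat_lit 11, nat_lit 12, nat_lit 11])) (TL.node (TL.node (TL.leaf [nat_lit 10, nat_lit 11, nat_lit 8, nat_lit 12, nat_lit 11, nat_lit 12, nat_lit 7, nat_lit 11, nat_lit 8, nat_lit 11, nat_lit 10, nat_lit 11, nat_lit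 10, nat_lit 11, nat_lit 10, nat_lit 12, nat_lit 11, nat_lit 10, nat_lit 9, nat_lit 10, nat_lit 11, nat_lit 10, nat_lit 11, nat_lit 8, nat_lit 12, nat_lit 11, nat_lit 8, nat_lit 10, nat_lit 8, nat_lit 9, nat_lit 7, nat_lit 11, nat_lit 10, nat_lit 6, nat_lit 11, nat_lit 5]) (TL.leaf [nat_lit 9, nat_lit 12, nat_lit 9, nat_lit 12, nat_lit 9, nat_lit 10, nat_lit 11, nat_lit 12, nat_lit 10, nat_lit 11, nat_lit 10, nat_lit 11, nat_lit 10, nat_lit 11, nat_lit 10, nat_lit 11, nat_lit 9, nat_lit 12, nat_lit 11, nat_lit 5, nat_lit 10, nat_lit 11, nat_lit 12, nat_lit 11, nat_lit 8, nat_lit 8, nat_lit 10, nat_lit 11, nat_lit 10, nat_lit 11, nat_lit 10, nat_lit 11, nat_lit 10, nat_lit 11, nat_lit 8, nat_lit 5, nat_lit 11, nat_lit 7, nat_lit 12])) (TL.leaf [nat_lit 9, nat_lit 12, nat_lit 5, nat_lit 10, nat_lit 11, nat_lit 12, nat_lit 10, nat_lit 11, nat_lit 10, nat_lit 11, nat_lit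 10, nat_lit 11, nat_lit 10, nat_lit 7, nat_lit 12, nat_lit 9, nat_lit 12, nat_lit 9, nat_lit 11, nat_lit 12, nat_lit 11, nat_lit 10, nat_lit 11, nat_lit 12, nat_lit 11, nat_lit 7, nat_lit 11, nat_lit 10, nat_lit 12, nat_lit 11, nat_lit 7, nat_lit 10, nat_lit 11, nat_lit 10])))) (TL.node (TL.node (TL.node (TL.node (TL.leaf [nat_lit 12, nat_lit 9, nat_lit 12, nat_lit 10, nat_lit 11, nat_lit 12, nat_lit 10, nat_lit 11, nat_lit 10, nat_lit 11, nat_lit 10, nat_lit 11, nat_lit 10, nat_lit 11, nat_lit 12, nat_lit 11, nat_lit 10, nat_lit 5, nat_lit 11, nat_lit 10, nat_lit 11, nat_lit 8]) (TL.leaf [nat_lit 12, nat_lit 5, nat_lit 9, nat_lit 10, nat_lit 11, nat_lit 12, nat_lit 10, nat_lit 11, nat_lit 10, nat_lit 11, nat_lit 10, nat_lit 11, nat_lit 10, nat_lit 7, nat_lit 11, nat_lit 12, nat_lit 9, nat_lit 12, nat_lit 11, nat_lit 8, nat_lit 10, nat_lit 11, nat_lit 10, nat_lit 11,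 nat_lit 10, nat_lit 11, nat_lit 10, nat_lit 12, nat_lit 11, nat_lit 10, nat_lit 9, nat_lit 12, nat_lit 5, nat_lit 9, nat_lit 11])) (TL.leaf [nat_lit 6, nat_lit 11, nat_lit 10, nat_lit 11, nat_lit 7, nat_lit 12, nat_lit 11, nat_lit 7, nat_lit 12, nat_lit 11, nat_lit 10, nat_lit 12, nat_lit 11, nat_lit 10, nat_lit 9, nat_lit 11, nat_lit 12, nat_lit 11, nat_lit 10, nat_lit 8, nat_lit 11, nat_lit 12, nat_lit 11, nat_lit 8, nat_lit 12, nat_lit 11, nat_lit 10, nat_lit 6, nat_lit 11, nat_lit 10, nat_lit 7, nat_lit 7, nat_lit 11, nat_lit 12, nat_lit 11, nat_lit 7, nat_lit 7])) (TL.node (TL.node (TL.leaf [nat_lit 10, nat_lit 11, nat_lit 10, nat_lit 7, nat_lit 11, nat_lit 12, nat_lit 11, nat_lit 10, nat_lit 11, nat_lit 8, nat_lit 12, nat_lit 11, nat_lit 10, nat_lit 11, nat_lit 5, nat_lit 10, nat_lit 11, nat_lit 10, nat_lit 9, nat_lit 10, nat_lit 11, nat_lit 12, nat_lit 10, nat_lit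 11, nat_lit 10, nat_lit 11, nat_lit 10, nat_lit 11, nat_lit 7, nat_lit 11, nat_lit 10, nat_lit 12, nat_lit 11, nat_lit 8, nat_lit 5, nat_lit 10, nat_lit 11, nat_lit 12]) (TL.leaf [nat_lit 12, nat_lit 5, nat_lit 11, nat_lit 12, nat_lit 11, nat_lit 9, nat_lit 12, nat_lit 10, nat_lit 9, nat_lit 11, nat_lit 12, nat_lit 11, nat_lit 9, nat_lit 10, nat_lit 11, nat_lit 12, nat_lit 10, nat_lit 11, nat_lit 10, nat_lit 11, nat_lit 10, nat_lit 11, nat_lit 10, nat_lit 11, nat_lit 10, nat_lit 11, nat_lit 12, nat_lit 11, nat_lit 7, nat_lit 7, nat_lit 10, nat_lit 11, nat_lit 12])) (TL.leaf [nat_lit 9, nat_lit 12, nat_lit 9, nat_lit 12, nat_lit 8, nat_lit 10, nat_lit 11, nat_lit 10, nat_lit 11, nat_lit 10, nat_lit 11, nat_lit 10, nat_lit 12, nat_lit 11, nat_lit 10, nat_lit 9, nat_lit 12, nat_lit 5, nat_lit 6, nat_lit 11, nat_lit 12, nat_lit 11, nat_lit 10, nat_lit 11, nat_lit 12, nat_lit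 11, nat_lit 8, nat_lit 10, nat_lit 11, nat_lit 10, nat_lit 11, nat_lit 10, nat_lit 11, nat_lit 10, nat_lit 12, nat_lit 11, nat_lit 10, nat_lit 9, nat_lit 8, nat_lit 10, nat_lit 11, nat_lit 10, nat_lit 11, nat_lit 10, nat_lit 12, nat_lit 6, nat_lit 7, nat_lit 11, nat_lit 7]))) (TL.node (TL.node (TL.node (TL.leaf [nat_lit 9, nat_lit 10, nat_lit 11, nat_lit 12, nat_lit 10, nat_lit 11, nat_lit 10, nat_lit 11, nat_lit 7, nat_lit 9, nat_lit 12, nat_lit 11, nat_lit 10, nat_lit 11, nat_lit 10, nat_lit 11, nat_lit 10, nat_lit 7, nat_lit 9, nat_lit 12, nat_lit 9, nat_lit 5, nat_lit 10, nat_lit 11, nat_lit 10, nat_lit 12, nat_lit 11, nat_lit 10, nat_lit 8, nat_lit 5]) (TL.leaf [nat_lit 9, nat_lit 12, nat_lit 5, nat_lit 10, nat_lit 11, nat_lit 12, nat_lit 10, nat_lit 11, nat_lit 10, nat_lit 11, nat_lit 10, nat_lit 11, nat_lit 10, nat_lit 7, nat_lit 7, nat_lit 11, nat_lit 12, nat_lit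 11, nat_lit 10, nat_lit 5, nat_lit 11, nat_lit 12, nat_lit 11, nat_lit 8, nat_lit 10, nat_lit 11, nat_lit 10, nat_lit 12, nat_lit 11, nat_lit 10, nat_lit 9, nat_lit 12, nat_lit 11, nat_lit 5, nat_lit 9])) (TL.leaf [nat_lit 9, nat_lit 12, nat_lit 9, nat_lit 12, nat_lit 9, nat_lit 10, nat_lit 11, nat_lit 12, nat_lit 10, nat_lit 11, nat_lit 10, nat_lit 11, nat_lit 10, nat_lit 11, nat_lit 10, nat_lit 7, nat_lit 9, nat_lit 10, nat_lit 11, nat_lit 12, nat_lit 10, nat_lit 11, nat_lit 10, nat_lit 11, nat_lit 10, nat_lit 11, nat_lit 10, nat_lit 7, nat_lit 12, nat_lit 5, nat_lit 11, nat_lit 10, nat_lit 8, nat_lit 11, nat_lit 12, nat_lit 7, nat_lit 11, nat_lit 7, nat_lit 10, nat_lit 11, nat_lit 7, nat_lit 9, nat_lit 5, nat_lit 11])) (TL.node (TL.node (TL.leaf [nat_lit 9, nat_lit 12, nat_lit 9, nat_lit 12, nat_lit 9, nat_lit 10, nat_lit 11, nat_lit 12, nat_lit 10, nat_lit 11, nat_lit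 10, nat_lit 11, nat_lit 10, nat_lit 11, nat_lit 10, nat_lit 6, nat_lit 12, nat_lit 5, nat_lit 11, nat_lit 12, nat_lit 11, nat_lit 10, nat_lit 5, nat_lit 11, nat_lit 12, nat_lit 10, nat_lit 5, nat_lit 11, nat_lit 10, nat_lit 7, nat_lit 11, nat_lit 10, nat_lit 7]) (TL.leaf [nat_lit 11, nat_lit 12, nat_lit 11, nat_lit 10, nat_lit 5, nat_lit 8, nat_lit 11, nat_lit 12, nat_lit 11, nat_lit 10, nat_lit 11, nat_lit 12, nat_lit 11, nat_lit 10, nat_lit 5, nat_lit 6, nat_lit 11, nat_lit 10, nat_lit 11, nat_lit 12, nat_lit 11, nat_lit 10, nat_lit 9, nat_lit 10, nat_lit 11, nat_lit 12, nat_lit 10, nat_lit 11, nat_lit 10, nat_lit 11, nat_lit 10, nat_lit 11, nat_lit 7, nat_lit 12, nat_lit 7, nat_lit 9])) (TL.leaf [nat_lit 8, nat_lit 10, nat_lit 11, nat_lit 10, nat_lit 11, nat_lit 10, nat_lit 11, nat_lit 10, nat_lit 12, nat_lit 11, nat_lit 10, nat_lit 12, nat_lit 9, nat_lit 5, nat_lit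 11, nat_lit 12, nat_lit 11, nat_lit 12, nat_lit 9, nat_lit 10, nat_lit 9, nat_lit 11, nat_lit 12, nat_lit 10, nat_lit 11, nat_lit 10, nat_lit 11, nat_lit 7, nat_lit 12, nat_lit 11, nat_lit 5, nat_lit 10, nat_lit 6, nat_lit 8, nat_lit 11, nat_lit 10])))))
noncomputable def K5 (i : ℕ) : List ℕ := TL.get K5_t i
theorem sy5 : Sy q5 5 2 R5 := md5.sy' (by decide) (by decide) (upTo_beq (by decide +kernel)) (pr := 25) (Z := Zm5) rfl (upTo_beq (by decide +kernel)) (by rw [card]; decide)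
theorem fx5 (Ω : Type*) [Fintype Ω] [MulAction P Ω] : 25 ∣ Fintype.card Ω + 24 * Nat.card (MulAction.fixedBy Ω (q5 3)) :=
  md5.fix sy5 (by norm_num) (K := K5) (by decide) (upTo_beq (n := 25) (by decide +kernel)) Ω
def V_t : TL := (TL.node (TL.node (TL.node (TL.leaf [nat_lit 4, nat_lit 3, nat_lit 3, nat_lit 4, nat_lit 4, nat_lit 4, nat_lit 4, nat_lit 3, nat_lit 4, nat_lit 4, nat_lit 4, nat_lit 4, nat_lit 3, nat_lit 4, nat_lit 3, nat_lit 3, nat_lit 4, nat_lit 3, nat_lit 4, nat_lit 3, nat_lit 3, nat_lit 4, nat_lit 4, nat_lit 3, nat_lit 4, nat_lit 3, nat_lit 4, nat_lit 4, nat_lit 4, nat_lit 3, nat_lit 3, nat_lit 4, nat_lit 4, nat_lit 4, nat_lit 4, nat_lit 3, nat_lit 3, nat_lit 4, nat_lit 4, nat_lit 3, nat_lit 4, nat_lit 4, nat_lit 4, nat_lit 4, nat_lit 4, nat_lit 4, nat_lit 4, nat_lit 4, nat_lit 3, nat_lit 3, nat_lit 4, nat_lit 4, nat_lit 3, nat_lit 3, nat_lit 3]) (TL.leaf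 [nat_lit 3, nat_lit 3, nat_lit 4, nat_lit 4, nat_lit 3, nat_lit 4, nat_lit 3, nat_lit 4, nat_lit 4, nat_lit 4, nat_lit 4, nat_lit 3, nat_lit 4, nat_lit 4, nat_lit 4, nat_lit 4, nat_lit 4, nat_lit 4, nat_lit 4, nat_lit 4, nat_lit 3, nat_lit 3, nat_lit 4, nat_lit 4, nat_lit 4, nat_lit 4, nat_lit 3, nat_lit 4, nat_lit 4, nat_lit 3, nat_lit 3, nat_lit 4, nat_lit 4, nat_lit 4, nat_lit 4, nat_lit 4, nat_lit 4, nat_lit 4, nat_lit 4, nat_lit 3, nat_lit 4, nat_lit 3, nat_lit 3, nat_lit 3, nat_lit 3])) (TL.node (TL.leaf [nat_lit 3, nat_lit 3, nat_lit 4, nat_lit 4, nat_lit 3, nat_lit 4, nat_lit 4, nat_lit 4, nat_lit 4, nat_lit 3, nat_lit 3, nat_lit 4, nat_lit 4, nat_lit 3, nat_lit 4, nat_lit 4, nat_lit 3, nat_lit 4, nat_lit 3, nat_lit 3, nat_lit 4, nat_lit 4, nat_lit 4, nat_lit 4, nat_lit 4, nat_lit 4, nat_lit 4, nat_lit 4, nat_lit 3, nat_lit 4, nat_lit 4, nat_lit 3]) (TL.leaf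 [nat_lit 3, nat_lit 4, nat_lit 4, nat_lit 4, nat_lit 4, nat_lit 4, nat_lit 4, nat_lit 4, nat_lit 4, nat_lit 3, nat_lit 4, nat_lit 3, nat_lit 3, nat_lit 4, nat_lit 4, nat_lit 4, nat_lit 4, nat_lit 3, nat_lit 4, nat_lit 4, nat_lit 4, nat_lit 4, nat_lit 4, nat_lit 4, nat_lit 4, nat_lit 4, nat_lit 3, nat_lit 3, nat_lit 4, nat_lit 4, nat_lit 4, nat_lit 4, nat_lit 4, nat_lit 4, nat_lit 4, nat_lit 4, nat_lit 3, nat_lit 3, nat_lit 4, nat_lit 3, nat_lit 4, nat_lit 3, nat_lit 3, nat_lit 4, nat_lit 4, nat_lit 4, nat_lit 4, nat_lit 3, nat_lit 3, nat_lit 4, nat_lit 4, nat_lit 4, nat_lit 4, nat_lit 3, nat_lit 4, nat_lit 4, nat_lit 4, nat_lit 4, nat_lit 4, nat_lit 4, nat_lit 4, nat_lit 4, nat_lit 3, nat_lit 3, nat_lit 4, nat_lit 4, nat_lit 4, nat_lit 4, nat_lit 3, nat_lit 3, nat_lit 4, nat_lit 4, nat_lit 3, nat_lit 4, nat_lit 4, nat_lit 4, nat_lit 4, nat_lit 3]))) (TL.node (TL.node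 (TL.leaf [nat_lit 4, nat_lit 4, nat_lit 4, nat_lit 4, nat_lit 3, nat_lit 3, nat_lit 4, nat_lit 4, nat_lit 3, nat_lit 4, nat_lit 3, nat_lit 3, nat_lit 4, nat_lit 4, nat_lit 4, nat_lit 4, nat_lit 3, nat_lit 3, nat_lit 4, nat_lit 3, nat_lit 3, nat_lit 4, nat_lit 3, nat_lit 4, nat_lit 4, nat_lit 4, nat_lit 4, nat_lit 4, nat_lit 4, nat_lit 4, nat_lit 4, nat_lit 3, nat_lit 3, nat_lit 4, nat_lit 4, nat_lit 4, nat_lit 4, nat_lit 3, nat_lit 3, nat_lit 4, nat_lit 3, nat_lit 3, nat_lit 4, nat_lit 4, nat_lit 4, nat_lit 4, nat_lit 3, nat_lit 3, nat_lit 4, nat_lit 4, nat_lit 4, nat_lit 4, nat_lit 4, nat_lit 4, nat_lit 4, nat_lit 4, nat_lit 3, nat_lit 4, nat_lit 3, nat_lit 4, nat_lit 4, nat_lit 4, nat_lit 4, nat_lit 3, nat_lit 3, nat_lit 3, nat_lit 3]) (TL.leaf [nat_lit 4, nat_lit 3, nat_lit 3, nat_lit 4, nat_lit 4, nat_lit 3, nat_lit 4, nat_lit 3, nat_lit 3, nat_lit 4, nat_lit 4,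 nat_lit 3, nat_lit 3, nat_lit 4, nat_lit 3, nat_lit 3, nat_lit 4, nat_lit 3, nat_lit 4, nat_lit 4, nat_lit 3, nat_lit 4, nat_lit 3, nat_lit 4])) (TL.node (TL.leaf [nat_lit 3, nat_lit 3, nat_lit 4, nat_lit 4, nat_lit 4, nat_lit 4, nat_lit 4, nat_lit 4, nat_lit 4, nat_lit 4, nat_lit 3, nat_lit 3, nat_lit 4, nat_lit 4, nat_lit 3, nat_lit 3, nat_lit 4, nat_lit 3, nat_lit 4, nat_lit 4, nat_lit 4, nat_lit 4, nat_lit 3, nat_lit 3, nat_lit 4, nat_lit 4, nat_lit 3, nat_lit 4, nat_lit 4, nat_lit 3, nat_lit 4, nat_lit 3, nat_lit 4, nat_lit 4, nat_lit 4, nat_lit 4, nat_lit 3]) (TL.leaf [nat_lit 3, nat_lit 4, nat_lit 4, nat_lit 4, nat_lit 4, nat_lit 4, nat_lit 4, nat_lit 4, nat_lit 4, nat_lit 3, nat_lit 3, nat_lit 4, nat_lit 4, nat_lit 4, nat_lit 4, nat_lit 3, nat_lit 3, nat_lit 4, nat_lit 3, nat_lit 3, nat_lit 4, nat_lit 3, nat_lit 4, nat_lit 3, nat_lit 3, nat_lit 4, nat_lit 4,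 nat_lit 4, nat_lit 4, nat_lit 3, nat_lit 3, nat_lit 4, nat_lit 3, nat_lit 4, nat_lit 4, nat_lit 4, nat_lit 4, nat_lit 3, nat_lit 3, nat_lit 4, nat_lit 4, nat_lit 4, nat_lit 4, nat_lit 4, nat_lit 4, nat_lit 4, nat_lit 4, nat_lit 3, nat_lit 4, nat_lit 3, nat_lit 4, nat_lit 4, nat_lit 4, nat_lit 4, nat_lit 3, nat_lit 3, nat_lit 3, nat_lit 3]))))
noncomputable def V (i : ℕ) : List ℕ := TL.get V_t i
theorem gn : Subgroup.closure {q3 3, q3 4} = ⊤ := md3.pair top (o := 6) (V := V) (fun j hj => by interval_cases j <;> exact one_mul _) (by decide +kernel)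
theorem oy : q3 3 ^ 3 = 1 ∧ q3 3 ≠ 1 := by simpa using (md3.ord le_rfl (a := ([3], 3)) (by decide +kernel)).2
theorem ob : q3 4 ^ 5 = 1 ∧ q3 4 ≠ 1 := by simpa using (md3.ord le_rfl (a := ([4], 5)) (by decide +kernel)).2
theorem ox : q3 5 ^ 13 = 1 ∧ q3 5 ≠ 1 := by simpa using (md3.ord le_rfl (a := ([5], 13)) (by decide +kernel)).2
theorem yx : q3 3 * q3 5 = q3 5 ^ 3 * q3 3 := by simpa [pow_succ] using md3.eq (u := [5, 3]) (w := [3, 5, 5, 5]) (by decide +kernel)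
theorem no2 (Ω : Type*) [Fintype Ω] [MulAction P Ω] [FaithfulSMul P Ω] (h : 3 ≤ Fintype.card Ω) : ¬ MulAction.IsMultiplyPretransitive P Ω 2 :=
  tits_no2 card gn oy ob ox yx h (fx3 Ω) (fx5 Ω)

end Cfsg.Agent.Ct.T2c
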