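import Cfsg.Agent.Lib.Cert.Mod
import Cfsg.Agent.Lib.PermCert.PL
import Cfsg.Agent.Lib.Cert.T2.T4.Cl

set_option autoImplicit false
set_option maxRecDepth 100000

namespace Cfsg.Agent.Ct.T2

open Cfsg.Agent.PC

open Cfsg.Agent.Fi Cfsg.Agent.Ct
namespace L1
def t0x : TN := (TN.leaf (nat_lit 0x8240f04f7775b49081))
def t1x : TN := (TN.leaf (nat_lit 0x8339c9303721210a82))
def t2x : TN := (TN.leaf (nat_lit 0x24c15be48813710c83))
def t3x : TN := (TN.leaf (nat_lit 0x82925ad022434d0e84))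
def tt : TN := (TN.node (TN.node (TN.node (TN.node t0x (TN.leaf (nat_lit 0))) (TN.node (TN.leaf (nat_lit 0)) (TN.leaf (nat_lit 0)))) (TN.node (TN.node t2x (TN.leaf (nat_lit 0))) (TN.node (TN.leaf (nat_lit 0)) (TN.leaf (nat_lit 0))))) (TN.node (TN.node (TN.node t1x (TN.leaf (nat_lit 0))) (TN.node (TN.leaf (nat_lit 0)) (TN.leaf (nat_lit 0)))) (TN.node (TN.node t3x (TN.leaf (nat_lit 0))) (TN.node (TN.leaf (nat_lit 0)) (TN.leaf (nat_lit 0))))))
noncomputable def T (j c : ℕ) : ℕ := getL tt (nat_lit 9) (nat_lit 7) j c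
noncomputable def E (j c : ℕ) : ℕ := getL tt (nat_lit 9) (nat_lit 511) j c
theorem T_eq (j c : ℕ) : T j c = E j c % 8 :=
  getL_mod (a := 3) (b := 9) _ _ (by norm_num) (by norm_num) (by norm_num) (by norm_num) j c
def rels : List (List ℕ) := [[nat_lit 1, nat_lit 2, nat_lit 2], [nat_lit 2, nat_lit 0, nat_lit 3, nat_lit 0]]
def inv (i : ℕ) : ℕ := Nat.land (Nat.shiftRight (nat_lit 17608) (Nat.mul (nat_lit 3) i)) (nat_lit 7)
def X_t : TN := (TN.leaf (nat_lit 0))
noncomputable def X (i : ℕ) : ℕ := get9 X_t (nat_lit 1) (nat_lit 1) i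
def Jp_t : TN := (TN.leaf (nat_lit 0))
noncomputable def Jp (i : ℕ) : ℕ := get9 Jp_t (nat_lit 1) (nat_lit 1) i
def J_t : TN := (TN.leaf (nat_lit 0))
noncomputable def J (k : ℕ) : ℕ := getV J_t Jp k
def Pa_t : TN := (TN.leaf (nat_lit 0x8944e228241a050000))
noncomputable def Pa (i : ℕ) : ℕ := get9 Pa_t (nat_lit 9) (nat_lit 511) i
def W_t : TL := (TL.node (TL.node (TL.node (TL.leaf [nat_lit 5, nat_lit 3, nat_lit 1, nat_lit 2]) (TL.leaf [nat_lit 2055, nat_lit 0, nat_lit 2, nat_lit 0, nat_lit 3])) (TL.leaf [nat_lit 6, nat_lit 1, nat_lit 3, nat_lit 3])) (TL.node (TL.leaf [nat_lit 4, nat_lit 2, nat_lit 1, nat_lit 3]) (TL.leaf [nat_lit 2051, nat_lit 0, nat_lit 3, nat_lit 0, nat_lit 2])))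
noncomputable def W (i : ℕ) : List ℕ := TL.get W_t i
def WA_t : TL := (TL.leaf [nat_lit 0])
noncomputable def WA (i : ℕ) : List ℕ := TL.get WA_t i
noncomputable def row : ℕ → ℕ := hRow (nat_lit 7) (nat_lit 4) (nat_lit 0) (nat_lit 8) (nat_lit 8) (nat_lit 64) (nat_lit 128) (nat_lit 128) (nat_lit 0) E X Pa inv (wfun (nat_lit 5) W_t)
noncomputable def aux : ℕ → ℕ := hAux (nat_lit 8) (nat_lit 4) (nat_lit 8) (nat_lit 64) (nat_lit 128) (nat_lit 2) (nat_lit 2) (nat_lit 128) (nat_lit 0) E X J Pa inv WA_t.get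
theorem r0 : Nat.beq (rng row (nat_lit 0) (nat_lit 8)) (nat_lit 0) = true := by decide +kernel
theorem rows : ∀ i < 8, row i = 0 := by
  have h := zero_lt_zero row
  have h := zero_lt_add (a := (nat_lit 0)) (n := (nat_lit 8)) (b := (nat_lit 8)) h r0 rfl
  exact h
theorem auxs : ∀ i < 0, aux i = 0 := by
  have h := zero_lt_zero aux
  exact h
theorem closes.{u} : ClosesT.{u} inv rels 4 0 8 T :=
  hc_closes (N1 := (nat_lit 7)) rfl T_eq (by decide +kernel) rows auxs
theorem T_inv : ∀ c < 8, ∀ j < 4, T j c < 8 ∧ T (inv j) (T j c) = c := 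
  hc_inv (inv := inv) (N1 := (nat_lit 7)) rfl T_eq rows
end L1

namespace L2
def t0x : TN := (TN.leaf (nat_lit 0xa9b499244))
def t1x : TN := (TN.leaf (nat_lit 0xcdc6a2a44))
def t2x : TN := (TN.leaf (nat_lit 0xcfc7a0244))
def t3x : TN := (TN.leaf (nat_lit 0xe1d099a80))
def t4x : TN := (TN.leaf (nat_lit 0xa148c8881))
def t5x : TN := (TN.leaf (nat_lit 0x229110682))
def tt : TN := (TN.node (TN.node (TN.node (TN.node t0x (TN.leaf (nat_lit 0))) (TN.node t4x (TN.leaf (nat_lit 0)))) (TN.node (TN.node t2x (TN.leaf (nat_lit 0))) (TN.node (TN.leaf (nat_lit 0)) (TN.leaf (nat_lit 0))))) (TN.node (TN.node (TN.node t1x (TN.leaf (nat_lit 0))) (TN.node t5x (TN.leaf (nat_lit 0)))) (TN.node (TN.node t3x (TN.leaf (nat_lit 0))) (TN.node (TN.leaf (nat_lit 0)) (TN.leaf (nat_lit 0))))))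
noncomputable def T (j c : ℕ) : ℕ := getL tt (nat_lit 9) (nat_lit 3) j c
noncomputable def E (j c : ℕ) : ℕ := getL tt (nat_lit 9) (nat_lit 511) j c
theorem T_eq (j c : ℕ) : T j c = E j c % 4 :=
  getL_mod (a := 2) (b := 9) _ _ (by norm_num) (by norm_num) (by norm_num) (by norm_num) j c
def rels : List (List ℕ) := [[nat_lit 1, nat_lit 2, nat_lit 2], [nat_lit 2, nat_lit 0, nat_lit 3, nat_lit 0], [nat_lit 0, nat_lit 4, nat_lit 0, nat_lit 4], [nat_lit 2, nat_lit 4, nat_lit 2, nat_lit 4], [nat_lit 0, nat_lit 3, nat_lit 5, nat_lit 0, nat_lit 3, nat_lit 5], [nat_lit 5, nat_lit 0, nat_lit 5, nat_lit 1, nat_lit 0], [nat_lit 5, nat_lit 4, nat_lit 5, nat_lit 4, nat_lit 0, nat_lit 3]]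
def inv (i : ℕ) : ℕ := Nat.land (Nat.shiftRight (nat_lit 0x1ac4c8) (Nat.mul (nat_lit 3) i)) (nat_lit 7)
def X_t : TN := (TN.leaf (nat_lit 0))
noncomputable def X (i : ℕ) : ℕ := get9 X_t (nat_lit 1) (nat_lit 1) i
def Jp_t : TN := (TN.leaf (nat_lit 0))
noncomputable def Jp (i : ℕ) : ℕ := get9 Jp_t (nat_lit 1) (nat_lit 1) i
def J_t : TN := (TN.leaf (nat_lit 0))
noncomputable def J (k : ℕ) : ℕ := getV J_t Jp k
def Pa_t : TN := (TN.leaf (nat_lit 0x95454400))
noncomputable def Pa (i : ℕ) : ℕ := get9 Pa_t (nat_lit 8) (nat_lit 255) i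
def W_t : TL := (TL.node (TL.node (TL.node (TL.leaf [nat_lit 4097, nat_lit 0, nat_lit 4, nat_lit 0, nat_lit 4]) (TL.leaf [nat_lit 10247, nat_lit 1, nat_lit 0, nat_lit 5, nat_lit 0, nat_lit 5])) (TL.node (TL.leaf [nat_lit 10243, nat_lit 0, nat_lit 5, nat_lit 1, nat_lit 0, nat_lit 5]) (TL.leaf [nat_lit 12291, nat_lit 4, nat_lit 5, nat_lit 4, nat_lit 0, nat_lit 3, nat_lit 5]))) (TL.node (TL.node (TL.leaf [nat_lit 6145, nat_lit 3, nat_lit 4, nat_lit 2, nat_lit 4]) (TL.leaf [nat_lit 8195, nat_lit 2, nat_lit 5, nat_lit 0, nat_lit 3, nat_lit 5, nat_lit 0])) (TL.leaf [nat_lit 6, nat_lit 1, nat_lit 3, nat_lit 3])))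
noncomputable def W (i : ℕ) : List ℕ := TL.get W_t i
def WA_t : TL := (TL.leaf [nat_lit 0])
noncomputable def WA (i : ℕ) : List ℕ := TL.get WA_t i
noncomputable def row : ℕ → ℕ := hRow (nat_lit 3) (nat_lit 6) (nat_lit 4) (nat_lit 4) (nat_lit 16) (nat_lit 64) (nat_lit 64) (nat_lit 64) (nat_lit 0) E X Pa inv (wfun (nat_lit 7) W_t)
noncomputable def aux : ℕ → ℕ := hAux (nat_lit 4) (nat_lit 6) (nat_lit 4) (nat_lit 64) (nat_lit 64) (nat_lit 2) (nat_lit 2) (nat_lit 64) (nat_lit 0) E X J Pa inv WA_t.get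
theorem r0 : Nat.beq (rng row (nat_lit 0) (nat_lit 4)) (nat_lit 0) = true := by decide +kernel
theorem rows : ∀ i < 4, row i = 0 := by
  have h := zero_lt_zero row
  have h := zero_lt_add (a := (nat_lit 0)) (n := (nat_lit 4)) (b := (nat_lit 4)) h r0 rfl
  exact h
theorem auxs : ∀ i < 0, aux i = 0 := by
  have h := zero_lt_zero aux
  exact h
theorem closes.{u} : ClosesT.{u} inv rels 6 4 4 T :=
  hc_closes (N1 := (nat_lit 3)) rfl T_eq (by decide +kernel) rows auxs
theorem T_inv : ∀ c < 4, ∀ j < 6, T j c < 4 ∧ T (inv j) (T j c) = c := 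
  hc_inv (inv := inv) (N1 := (nat_lit 3)) rfl T_eq rows
end L2

namespace L3
def t0x : TN := (TN.leaf (nat_lit 0x621d7b00ebb8195c140a4d60566a32b549958940a65c054e832ab5814eb4aab5e6548402774814da809fd4555280ea1207571009a42050c426b62012ba409eca051640e8cd013e803a54604c64026718138a43a7b21d1280e8f001350c3a8820c4a602611194084097d20469f32781874b8cca0820c26282852873980c9bc0048e00211001070c3a4020c0e8022f201278cc94320464501fc280fd7cc974404462021f101107808ed00471d2a3f3991e1c07d5064d98324d081159cc94c4040603231300f47c0798404ea132450932084a90c003e5b020cd80fc980813a03b420264f952d7c996341c35e01cef80df080954a1c2e10e2c200db6007488549442648d070c1006a0c1c6df0e1ce80f77037c0c0345e01e329514783898c0309d0deb000d88406d400389c0e14f00c16407432031170dfec18eb74382be0341a01bcd00d38c06bbe63b9e01aae00b878382326395d0162f00a60c3804063bc10538fc0f088371ae02d5d31c2186fb64c72020a58531ecf40e67006736633c5012a2809464062b20319d0178e809b7404d304b2982996c18ea041468a63c9d8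1d8f80bf78c600a023050116e18c97c0563e02a9f0156d98e06005a3002cd631acb94b75c95b0e0221c31bac80a56405226027970126f18bb7895cbc52e9d010ea8099540453a637182960c12af7004ea8024140122c009f5e150244ab9b0d46100d970a64384b1d40d50d80805c0470403484299a212cc583568801c930d42986a27003b2c1a5c20186214be1095ea81a9c400d6306b270354ae021560d0c300686003e2401e1600e2d069870033a801d5400d4b86836c03ba601b9300de886826a03db61a3d330fcd005e58036061a49531020824e48c3ca461e9b00a8a98730c344a661f410492298846e03fac0195530cc2804814023ae016d100b0a00565002bb261d1300a69805258c3124013520098818614c92fa651813008cd186d48a2ea4497190096780433c0220401c1128b48925960328a00100200d22146410931a419544006e7064f383282400f9100747864a4801b22190980072700333801a2019057807a780300c322a260fc1044a6983b34c1e2200b500054718383c0149e00a10306468024340119e60c4e285e7122e380109c00882006a6142c309159a1898d0c4e7001e3000d9a1880d00326801a2c30f986070c303a680162c009986060c00246001128c0b965054b24284800f20308160034a0c1c4000b1cc0614002493014314081890390181850c0a3980410c0188480830c0208200))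
def t1x : TN := (TN.leaf (nat_lit 0x5a257af12bb88152b0eadd8856a93ab3501559c0a5ca053a942b0201530c2aa608572f027728143a809ec8155ac029420134984abd61536b3a93489488409fd0251a6128b4013e904a85004e65028122141804a3ce25129129f10115b84a8b4049a74285501338c088d2045e302301894ca4e9c4204ba702613053190091406cc8402581852da04958c049ea02352810314d95326ce8402481852588084c684bc40240185219c08f4c147c402381851d880825274a69022512135a109b44040214279400ff10076d074662426e2010f0c28808039da01ef080fb7c078b603ce13646201070c2844203e1c01f30891b90d945003d4401b7089169c28a0803f4309fc200d4804862c037db120b0090664486c2039a70a04480e9684854003b1e1217280e3880774283bc31226fa0f26c0753483ac811e9300c40c4874083d9c01c8da0e59107848036a00158c00b55447d46034df014cf80b10c480c67389e0193100d78426c3202e210176188fc88e6f0c033a101a1004d17404b0a6b4840198184cd1006506132dd35b2200c70c2640803143098d29ce81805fc80306309850008d14d618802f43097cf809c8106a8802e430974c1ad61005b0612dd741c0200b30c25a3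8023de35b8200af0c2582e0281b0124fa0e1100550612ac40100a008578044bc837440148184a51003e2a0239a0104b1cae1004f06127da0106f1abc1004d06126db010cb00876c048386b3c4012818495100393422b5400f0d08976c459282289f35802008b0c2460801add114e880765444c34226531150f007f6444eb22285d00f6188a9750422c01f5540fc188a371040aa01e5440f49889178038a02221d00d4e00544802c06224dd38ee9805b700373611bdc00bc980610c4453871d4600cad8067682342e0124534d2200630c232300139240d82005f0c2303669b4400b81845d48d38080164308b48a0731002b06115d5008ada0741002906114c4007c8004058020ae6988400981844d5c02128010d634cc200470c2240800dd410aa8003a4c4252c212d5109e788506801e8621459407e8003b3d01e1e21118006c8802a0c4232e70e4e005ab00335421a2400951006081a31100170610bcd346a2002b0c2162080e040050184293c00f20007d13464200230c2121c006cd0040608213c4131c209cf00387201d3441126006523834600133400b18685c40028184152d00c080044308244800d3000716203c810204800b21006160024a4014200070c2040e00146100c42004150018c70083100208200))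
def t2x : TN := (TN.leaf (nat_lit 0x66057b302bb58155ac0a458051a8028b8ad5cb40a8020cff102a40833db00a7d8b562c027d5814bac8aa4c051c106682914da80a1d34d32a02561015b888ab584568202b355351969abce04ca402451812f8a8a75204ec202a73013ab29a25404569025d2013798099ce049ec02254d34aa0088d244e66021310123adaa0ccd508106092011b080a4d8d4da9020743529a568bd0d4f0105f71810c98898c84500105f2f01050417c480418105eee010d8c896cab4a2a6a6b2d119ab09554042e8be4c082ed1488a4eb46286a70082e7180870a4441b223b11125a00805003a622260082df6007d44447dd22421012c9c08d020b6c52205280f192989820b50601f8290fe080922e4420202412111e0808e0c034a6a6032530a8e97a0c030e2a62d180d98405dc003565a5fef80bf7405c32035a4a5e6f00e008087c00339e0163000dc98064c20386201b5180c408083be0376001a7010e59697ac402b2621c70009c7c05e3a43ae869de100fd8405344d399f012cf00cf7c868c4d3d810524e80ad041483a025e369e00828f78059020a3970145200b589a7644023610181110c285a79020a260014f010d884877020a1d80130c90ea041433a0266469d008285580543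a4322021c8082837004eb80285c219b134e2041400c02a452156a90b47c85f42d378104f8300a314852ac4319b0140a80820413c2c0245b2160f90d70413b260221c216eb90ba70865bc4340104e4300931484a8403315213e100ca08063840316121820826b180450a42302017a9109b0805c8402d82016630069080578402b9500c2100aa74032b60179d00da100a46803630016d300e01009e60039840269c00e8d006a6c038840251c00b0c107a68027320189d20fcd348108045b60151f68fec8049600333241a1f6908082455c02ab441bd968f608243580253a41f410484c804b4c83c8209058009ee347704120240141620c8db4750411f0c0144520a6890575c82d3241b810474900446082eaa4181820ce08237180230a4120200c68904d0802f840170200b21005648018840149400609002d3801a84013110070a803608023ac00a922078a00254c0192840d15687aa343f041101e0084e20760821f480132cd0e41043c8802740814a240b1320660821b400111e4090e205e1002e080158400a0e002c68017080119e004cf00308b41a3da0e9a40701041c7000f3c80c820834b0020510123480a8400502002258009300051cd030c201608205240031040202000e30003216020a00042000408200))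
def t3x : TN := (TN.leaf (nat_lit 0x65557b2aabb90158041a45a05181068b68152980a1c6051ea4ab96014f0419ee09556b028965557ac7a9c604fc602995014aaaaa85404d01065750f5b96ba756f56a71eb36813ba6aa5ce04bac025f28122080ab575544202a948126a2a9f4a94f2a0265481118d29c5a04aab02321014d95c9bcce50a7024718109892a05094e64023608304a47a4d6045e902513011a9929b52045630218082fb85298469505e020a082f98c0834a03e1c021a082f78c7964d1c0e6023140112a8093c603c69ba74301139407fd63cd6772663010e041738a3c3db1e3910f24a6a8b4a03d254a62c00fa0416fc6f479d1e401012da1c948c0406701eb3d50b980768c03f0105a828efd08092ae3c1c202421011f0808ec6033a601b7200f394074c402fe4aa01200c9a406ac402ec20229180c37806b3402e27aa15280b50808846034a101b9080b19c06cc602b2049c4ea4e808084440299e49bcfa4e40808142e386271e1080bc8004e3093a9f49dc100fe7dc6e8a93da0019ef8096752683ee399d015a082927404b820a42549c6f00b204147ae02881051d138e0152794603022011b024c179c7640029c10512f24d781277b002601050ee24eb7404c820a1a37188b00a804142b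a3b1dd49cae009d04141820a09c1d990b8da18054820a0051d54a8eb37c75ec0e34c601460827c147522c3b15b1d5cd46a1580488209e1b1d5efa4d84c0440209d9c1d6cb8eb9707653c934460126082721474a04033551d3c100cb0806404031a149843008a041358a3a2c2017c90e9a0805d0402dc20169000650805828f281b00d8100ab80034bc01b5e00bc100a568030b201c1400b61009f7402c04026dc00a8da4755d23b840255a70e6924796c031340139c48facb87b0804632e1d054908d006664024ae919dc70feb805504122b091b944902b004a04121b491f990096082425d23d30013c10482db8714802802090161cc6d386a180288208f851ca488e565c72cb291bd200880823a6072e2a397d848d0300460411b8a391c200c888e4c08030040174200b4100575401804014d60062980353c01684013570054824390802428e0e0d4876a803250012a490cd1487e9b83d3c01082088114878900260410faae0d91004e0821e407142238ad34868800220410d9e388ce1c5c1002f080160400a50002e700160801224006100026724193120e1a9074e001e0820e3920d1600401041a50e113470a040054200247800a3400496902ca4818480060410290381c20010480031520202080441c0410000))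
def t4x : TN := (TN.leaf (nat_lit 0x640577116bd6275ca80acde052693eb768155a40a6d8a55ac4eb16a954b4fa9dc9d49b02895814ca809ed69d3a816af50b50880a5422d2eed6b438145ac09fcc04ac61690d0b518c09a020c8a602651012ea85a3d404ee9169f38118a459f5c044a7025f201239409852045e9022b10b4304184ca9d0610223227379859cc29d021021f08110945a3516caa002353a72895393ce0464802384011d8d39c04050a40211201077c07eca03f873e483a925880873e9ca664e4d3273ca139b4c040a84e6b381139948a5ba4ea04e6301f2c81496c22c6dd0218e0b0d94080b203a4202671a9218cf904803f2001bf000e79d381ca2c5a41616f80f568076c8a479e523f18b061c07bc403e6115f4f00d41857dc20371e1601280f39057a42035a001b6082bb8406cbe0325915fe082b86005fc4030d81614f80c07c582020ac59019d000d29006abc02f2101aed00c17c582c0033db01a1026f67c578820a7204ddef00ac81370c09bca315c6e8af80414b3e9b915014cd26dd7d36f309b9550148a80a57c04fbe0279e4ddcf00aa78055aa02b9701400828d853751002d594dc0f26e85d3759002cc80168ea6e2080783c026de0134100ec64045b2023074d8439ebd1d45f3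e02a4201ccd00946804aa8a319e0146ea6d874f63baa321e1564b80a758554289b4543d98a28cd74556ac028551544b1ec579465bc7b29f0126100da7545d3a7ae5e0114e80764c03c04034d93d5eca8b07854ea801f1d0120e0a917404028020820188c1eb66145bba2a647010ae00876c5443001ac61512d806d64039262a39a00e0e0a8f0412f260195d00d298a920412da801b1900c290a9764031382a61a00cca806768037302a0c1049cca6814c02c3299cda4d089a67a5c543020925c4cfa800545133a3299d524cfc8005240029b099dd84cf2c804d640260401fd4008ea00480803da60159300ae9266f48f2ca4a169b00a27a6683cf319ea191a14aa8804f405280401c5850c0c1e5f640232400e8200d499e5c4d42eb0292cf007cb8043585222600dd2008088a415001a9c29141045a7803054018a2292960064980334852102089534c7e7802a4931c2a98e544c767263c380119c00902007a780283c0149c98d0e3c567282c400131e289c2006c69e2e35417a80085314446801b3800f1a287ce002c78017305101a004cc00305a6193930e1a9874d0022680123130d187850c502a5000f24508180034b141c400092c00514982c74c18400071d4041228186140a30003153020c78083140208200))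
def t5x : TN := (TN.leaf (nat_lit 0x69157b3daba08351b97ad820d169028c08344b80aa5c05301067d6b157b80a5820cec202b96013dac0a1820cd2c027f6c556b58a9d6051edce9353748a9fa5511564202b410158ab1a7c604b01064208320ae2a6840556b62a008313080a95404528025a0830f04187020c2c106141014e8808848046c106100830704182820c1275e7312f422d595c80458106040830104180020bfc90248431250417d020be4202821014094086820bde001f1301068db99020bd4105e8082f304178c6dca8105db4b73a0809e020ba4105cf0af330809c0404de4623f100fb0809b0404d4105be10131080984b14702025e1012e0416d8404a42025010127080934b13fa55dfaeaafc85b8604048c20244fc51d0808f020b3020234101190808c020af42022f000c70415d020ae42022ac80be0415b820ad820224082b308088b4033410560082af94064020aa810552082a808084820a90105460829d08081be02ade01640829b0414d020a64105303aad458052ba02b41052a0829404149820a4995dcc100f671865c0bb281051f22ee37d7783203158898c480b480053820a30105160828a04144b0bbb0201e408288041438403bc201dc08286080758403a81050a42ec4080743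adb6410506100e5080722e0245c6da4082807976d040388201c2100e07db618209f155da6100de0806eb80239b013e082786a450ac0208201b8082760806c04035c201ac100d54dd4b8209c8201a2100d00806784033966d5cdca9008064b6ba88104d6100c2080608403002017e100bc0805d8402e02016a0826308058aafa78104c0100ac50032020974104b8100a66c02f820968104b2100a00412b040270104a40825104128040259400aec004f04126820930104960824a08046a2014d700aa08248041238209181048a9ae7f0804202091010486100816973d820908200fc1007d041208401e8200f2082404d7388401dd66cd20823e417350401d4200e8100735db380208e8200de1006e080368401b01046e1006808033840198200ca1006208030840178200b610058041170401510005e0822c04115840138104500822708024a000a52004c082240411182088810442082203d71e8400fc1043e1003c0801d820878f5c6c100390801c22d8d41043610034080198400c82006210030080168400a81042a08214080128208481042208210041078208382003a1001c0410684006820032100180800b8400582002608208041038208181040a1000c080058400282001208202041008400102000608200))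
def t6x : TN := (TN.leaf (nat_lit 0x20d70106a41015eb00aa5a055ae02a770155041a0d8cd6ad9eb15a35bb51ac84057410674083380419b580526702800833304199020cbabca9c0832a04194820ca01064e0832604191d204c4202af3334d0418d020c641062f401350418904054410622101509809784053e79a7808309080a604052e89a85201229669b84052a3023b28124041818405202028e10146080a2840512502212232c080a1c73cc27023d000fe880844ccc862665b1010f0417b0404fc2027d117180809e820bbd41a2b200f2041760404ec20273233258518e020b98105ca082e404171020b80202690b31f8c07e820b78105ba082dc08095c803b8105b4082d90416b3e8c822460e082d304169020b44105a0082cf0416704046c10592082c204160c6cc5010579200d80808b46cc08105701011392675c602fc1056b358e8041588404382021a1010c0415604042e301aa1010a041530404182020a101040414e040404202011ccf08405d8403fe299c2082960807e0403ec201f4100f90807c0403ddb018cf00ae68057b60254201eb000b48805eb4cb35c0149100c010b618403d0201e70ccc48a6754402ae1458e100f18276bb202d9a0118100ed7004db0cae8201d2fb2c87c05502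0a10201cee809f65965ba8b3010502100e38595f3c8acc104fe0827e0413e84037dc0140da2c50413d8209e8104f2db2a5719583c0250104ee100db6d95bba022c104ea0827404139840351a4594ea29e041388209c0104de0826e041368209b03191aca2b97114d0209a8104d20826804133820998104ca100b2041310209842015a0825e080548402a02014e0825b0805184028820142082580804e82095020132100980804b8209382012610092080488402402011e1008e041248402282011210088080438402182010aa80576802c84020c20104a005c540240402017009a9b2600803e30014d944c610078519322c01481047e100765d92d2a89581047a0823c0411d8401c9664bac00470411c8208e0200d6a225f5d1260208d81046a08234041198208c810462082300802a8208b4200a210050080278208a8200961004a041128401182008a10044080218401082008210040500122088b82007c980294d1158400e926458922280410e8208702006e9b22f4511182086810432082180410b8208582004e100260410984008820042100200800f840079100247a2140800da0c854c44220820c041058208281041210010080078400382001a53208291038208101040610006080028c88081040010001))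
def tt : TN := (TN.node (TN.node (TN.node (TN.node t0x (TN.leaf (nat_lit 0))) (TN.node t4x (TN.leaf (nat_lit 0)))) (TN.node (TN.node t2x (TN.leaf (nat_lit 0))) (TN.node t6x (TN.leaf (nat_lit 0))))) (TN.node (TN.node (TN.node t1x (TN.leaf (nat_lit 0))) (TN.node t5x (TN.leaf (nat_lit 0)))) (TN.node (TN.node t3x (TN.leaf (nat_lit 0))) (TN.node (TN.leaf (nat_lit 0)) (TN.leaf (nat_lit 0))))))
noncomputable def T (j c : ℕ) : ℕ := getL tt (nat_lit 21) (nat_lit 511) j c
noncomputable def E (j c : ℕ) : ℕ := getL tt (nat_lit 21) (nat_lit 0x1fffff) j c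
theorem T_eq (j c : ℕ) : T j c = E j c % 512 :=
  getL_mod (a := 9) (b := 21) _ _ (by norm_num) (by norm_num) (by norm_num) (by norm_num) j c
def rels : List (List ℕ) := [[nat_lit 1, nat_lit 2, nat_lit 2], [nat_lit 2, nat_lit 0, nat_lit 3, nat_lit 0], [nat_lit 0, nat_lit 4, nat_lit 0, nat_lit 4], [nat_lit 2, nat_lit 4, nat_lit 2, nat_lit 4], [nat_lit 0, nat_lit 3, nat_lit 5, nat_lit 0, nat_lit 3, nat_lit 5], [nat_lit 5, nat_lit 0, nat_lit 5, nat_lit 1, nat_lit 0], [nat_lit 5, nat_lit 4, nat_lit 5, nat_lit 4, nat_lit 0, nat_lit 3], [nat_lit 0, nat_lit 6, nat_lit 0, nat_lit 6], [nat_lit 2, nat_lit 6, nat_lit 2, nat_lit 6, nat_lit 2, nat_lit 6], [nat_lit 6, nat_lit 1, nat_lit 6, nat_lit 4], [nat_lit 6, nat_lit 5, nat_lit 6, nat_lit 5, nat_lit 6, nat_lit 5, nat_lit 6, nat_lit 2, nat_lit 5, nat_lit 6, nat_lit 5, nat_lit 6, nat_lit 3, nat_lit 5, nat_lit 6, nat_lit 5, nat_lit 6, nat_lit 5, nat_lit 6, nat_lit 5, nat_lit 6, nat_lit 5, nat_lit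 2, nat_lit 6, nat_lit 5, nat_lit 6, nat_lit 3, nat_lit 5], [nat_lit 6, nat_lit 5, nat_lit 6, nat_lit 5, nat_lit 6, nat_lit 5, nat_lit 6, nat_lit 5, nat_lit 6, nat_lit 5, nat_lit 6, nat_lit 5, nat_lit 6, nat_lit 5, nat_lit 6, nat_lit 5, nat_lit 6, nat_lit 5, nat_lit 6, nat_lit 5, nat_lit 6, nat_lit 5, nat_lit 6, nat_lit 5, nat_lit 6, nat_lit 5]]
def inv (i : ℕ) : ℕ := Nat.land (Nat.shiftRight (nat_lit 0xfac4c8) (Nat.mul (nat_lit 3) i)) (nat_lit 7)
def X_t : TN := (TN.leaf (nat_lit 0))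
noncomputable def X (i : ℕ) : ℕ := get9 X_t (nat_lit 1) (nat_lit 1) i
def Jp_t : TN := (TN.leaf (nat_lit 0))
noncomputable def Jp (i : ℕ) : ℕ := get9 Jp_t (nat_lit 1) (nat_lit 1) i
def J_t : TN := (TN.leaf (nat_lit 0))
noncomputable def J (k : ℕ) : ℕ := getV J_t Jp k
def Pa_t : TN := (TN.leaf (nat_lit 0x275c69549a55159520e54559514e54459505a53f28cf9633d28cf4e33b58ce9a33868cd9a33458cd0a33368cc9a32e68cace32a68ca5a32868c9da32668c8da32248c85632058c69a1196845da11358449a11208445a10f58439610b58429610968425210908421610758415610458410a1043840da1030840961015840160ff583eca0fb383e960f9583e4a0f9383e0a0f7583dca0f7383d9a0f557bd15ef357bc55eef67bb55eed27bb19ee957b9d5ee727b9cdee667b959ee467b899ee067b7d5edf27b7cdede67b759edc67b6d5edb27b699ed967b599ed427b50ded367b499ed167b419ecf67b399ecc57b259cc2673059cbd572f19cbb472e95cb9572e19cb8472dd5cb6572d59cb3572c59cb1472c15caf572b19caa572a55ca8572999ca45728d5c9d572719c9c472701c9b572695c99572615c96672591c960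72555c945724d5c92572489c92372409c903723d5c8f2723cdc8e27238da8d46a341a8c56a2d5a8a56a255a8926a24da8856a1d5a8726a1cda8656a189a8636a155a8526a14da8466a0d5a8326a0cda8236a059a8056a009a80369fd9a7e669f59a7c569f09a7c369ed9a7a669e59a78569e09a78369dd9a76569d89a76369d59a74669cd9a72569c89a72369c59a70669bd9a6e669b59a6c661ad586b261acd86a661a598686619d986666195986356189986166181585e66179185d56171585b6616d185a56165585866159585466149585156141584e66139184e06135584c5612d584a5592596494592416485591d564655915564525914d6445590d56432590cd64255908964235905564125904d640559009640358fd963e558f8963e358f5963c658ed963a558e8963a358e59638650dd5437250dcd436650d59434650cd9432650c59430650b9542d650b5142c550ad542a650a154275489592254489412245488d52225488552205488092203487d521f2487cd21e54878921e34875921c6406d501b2406cd01a6406590186405d90166405550145384d8e12538454e105383d4e0e538388e0e330354c0d23034cc0c6302d8c0a628258a085281d4a0652015480522014c8046180d86025100544013080180000))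
noncomputable def Pa (i : ℕ) : ℕ := get9 Pa_t (nat_lit 18) (nat_lit 262143) i
def W_t : TL := (TL.node (TL.node (TL.node (TL.node (TL.node (TL.node (TL.leaf [nat_lit 6, nat_lit 1, nat_lit 3, nat_lit 3]) (TL.leaf [nat_lit 12289, nat_lit 5, nat_lit 4, nat_lit 5, nat_lit 4, nat_lit 0, nat_lit 3])) (TL.node (TL.leaf [nat_lit 8196, nat_lit 3, nat_lit 0, nat_lit 5, nat_lit 2, nat_lit 0, nat_lit 5]) (TL.leaf [nat_lit 20493, nat_lit 6, nat_lit 2, nat_lit 5, nat_lit 6, nat_lit 5, nat_lit 6, nat_lit 3, nat_lit 5, nat_lit 6, nat_lit 5, nat_lit 6, nat_lit 5, nat_lit 6, nat_lit 5, nat_lit 6, nat_lit 5, nat_lit 2, nat_lit 6, nat_lit 5, nat_lit 6, nat_lit 3, nat_lit 5, nat_lit 6, nat_lit 5, nat_lit 6, nat_lit 5, nat_lit 6, nat_lit 5]))) (TL.node (TL.node (TL.leaf [nat_lit 2055, nat_lit 0, nat_lit 2, nat_lit 0, nat_lit 3]) (TL.leaf [nat_lit 16385, nat_lit 3, nat_lit 6, nat_lit 2, nat_lit 6, nat_lit 2, nat_lit 6])) (TL.leaf [nat_lit 6148, nat_lit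 2, nat_lit 4, nat_lit 3, nat_lit 4]))) (TL.node (TL.node (TL.node (TL.leaf [nat_lit 22529, nat_lit 6, nat_lit 5, nat_lit 6, nat_lit 5, nat_lit 6, nat_lit 5, nat_lit 6, nat_lit 5, nat_lit 6, nat_lit 5, nat_lit 6, nat_lit 5, nat_lit 6, nat_lit 5, nat_lit 6, nat_lit 5, nat_lit 6, nat_lit 5, nat_lit 6, nat_lit 5, nat_lit 6, nat_lit 5, nat_lit 6, nat_lit 5, nat_lit 6, nat_lit 5]) (TL.leaf [nat_lit 18433, nat_lit 6, nat_lit 1, nat_lit 6, nat_lit 4])) (TL.node (TL.leaf [nat_lit 8195, nat_lit 2, nat_lit 5, nat_lit 0, nat_lit 3, nat_lit 5, nat_lit 0]) (TL.leaf [nat_lit 20507, nat_lit 5, nat_lit 6, nat_lit 5, nat_lit 6, nat_lit 5, nat_lit 6, nat_lit 5, nat_lit 6, nat_lit 5, nat_lit 2, nat_lit 6, nat_lit 5, nat_lit 6, nat_lit 3, nat_lit 5, nat_lit 6, nat_lit 5, nat_lit 6, nat_lit 5, nat_lit 6, nat_lit 5, nat_lit 6, nat_lit 2, nat_lit 5, nat_lit 6, nat_lit 5, nat_lit 6, nat_lit 3]))) (TL.node (TL.node (TL.leaf [nat_lit 1, nat_lit 1, nat_lit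 2, nat_lit 2]) (TL.leaf [nat_lit 2049, nat_lit 3, nat_lit 0, nat_lit 3, nat_lit 0])) (TL.leaf [nat_lit 12290, nat_lit 3, nat_lit 0, nat_lit 4, nat_lit 5, nat_lit 4, nat_lit 5])))) (TL.node (TL.node (TL.node (TL.node (TL.leaf [nat_lit 18435, nat_lit 1, nat_lit 6, nat_lit 4, nat_lit 6]) (TL.leaf [nat_lit 10246, nat_lit 5, nat_lit 0, nat_lit 5, nat_lit 0, nat_lit 1])) (TL.node (TL.leaf [nat_lit 6146, nat_lit 4, nat_lit 3, nat_lit 4, nat_lit 3]) (TL.leaf [nat_lit 12294, nat_lit 4, nat_lit 5, nat_lit 4, nat_lit 5, nat_lit 2, nat_lit 0]))) (TL.node (TL.node (TL.leaf [nat_lit 10243, nat_lit 0, nat_lit 5, nat_lit 1, nat_lit 0, nat_lit 5]) (TL.leaf [nat_lit 18437, nat_lit 6, nat_lit 4, nat_lit 6, nat_lit 1])) (TL.leaf [nat_lit 6145, nat_lit 3, nat_lit 4, nat_lit 2, nat_lit 4]))) (TL.node (TL.node (TL.node (TL.leaf [nat_lit 4, nat_lit 2, nat_lit 1, nat_lit 3]) (TL.leaf [nat_lit 20522, nat_lit 2, nat_lit 6, nat_lit 5, nat_lit 6, nat_lit 5,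 nat_lit 6, nat_lit 5, nat_lit 6, nat_lit 5, nat_lit 2, nat_lit 6, nat_lit 5, nat_lit 6, nat_lit 3, nat_lit 5, nat_lit 6, nat_lit 5, nat_lit 6, nat_lit 5, nat_lit 6, nat_lit 5, nat_lit 6, nat_lit 5, nat_lit 2, nat_lit 6, nat_lit 5, nat_lit 6, nat_lit 5])) (TL.leaf [nat_lit 8197, nat_lit 5, nat_lit 0, nat_lit 3, nat_lit 5, nat_lit 0, nat_lit 3])) (TL.node (TL.node (TL.leaf [nat_lit 10247, nat_lit 1, nat_lit 0, nat_lit 5, nat_lit 0, nat_lit 5]) (TL.leaf [nat_lit 2053, nat_lit 2, nat_lit 0, nat_lit 2, nat_lit 0])) (TL.leaf [nat_lit 4097, nat_lit 0, nat_lit 4, nat_lit 0, nat_lit 4]))))) (TL.node (TL.node (TL.node (TL.node (TL.node (TL.leaf [nat_lit 14337, nat_lit 0, nat_lit 6, nat_lit 0, nat_lit 6]) (TL.leaf [nat_lit 3, nat_lit 3, nat_lit 2, nat_lit 1])) (TL.node (TL.leaf [nat_lit 12291, nat_lit 4, nat_lit 5, nat_lit 4, nat_lit 0, nat_lit 3, nat_lit 5]) (TL.leaf [nat_lit 20511, nat_lit 5, nat_lit 6, nat_lit 5, nat_lit 6, nat_lit 5,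 nat_lit 6, nat_lit 5, nat_lit 2, nat_lit 6, nat_lit 5, nat_lit 6, nat_lit 3, nat_lit 5, nat_lit 6, nat_lit 5, nat_lit 6, nat_lit 5, nat_lit 6, nat_lit 5, nat_lit 6, nat_lit 2, nat_lit 5, nat_lit 6, nat_lit 5, nat_lit 6, nat_lit 3, nat_lit 5, nat_lit 6]))) (TL.node (TL.node (TL.leaf [nat_lit 14339, nat_lit 6, nat_lit 0, nat_lit 6, nat_lit 0]) (TL.leaf [nat_lit 20525, nat_lit 3, nat_lit 6, nat_lit 5, nat_lit 6, nat_lit 3, nat_lit 5, nat_lit 6, nat_lit 5, nat_lit 6, nat_lit 5, nat_lit 6, nat_lit 5, nat_lit 6, nat_lit 2, nat_lit 5, nat_lit 6, nat_lit 5, nat_lit 6, nat_lit 3, nat_lit 5, nat_lit 6, nat_lit 5, nat_lit 6, nat_lit 5, nat_lit 6, nat_lit 5, nat_lit 6, nat_lit 5])) (TL.leaf [nat_lit 10245, nat_lit 5, nat_lit 1, nat_lit 0, nat_lit 5, nat_lit 0]))) (TL.node (TL.node (TL.node (TL.leaf [nat_lit 5, nat_lit 3, nat_lit 1, nat_lit 2]) (TL.leaf [nat_lit 20527, nat_lit 6, nat_lit 5, nat_lit 6, nat_lit 3, nat_lit 5, nat_lit 6, nat_lit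 5, nat_lit 6, nat_lit 5, nat_lit 6, nat_lit 5, nat_lit 6, nat_lit 2, nat_lit 5, nat_lit 6, nat_lit 5, nat_lit 6, nat_lit 3, nat_lit 5, nat_lit 6, nat_lit 5, nat_lit 6, nat_lit 5, nat_lit 6, nat_lit 5, nat_lit 6, nat_lit 5, nat_lit 2])) (TL.leaf [nat_lit 12293, nat_lit 5, nat_lit 4, nat_lit 0, nat_lit 3, nat_lit 5, nat_lit 4])) (TL.node (TL.node (TL.leaf [nat_lit 6147, nat_lit 4, nat_lit 2, nat_lit 4, nat_lit 2]) (TL.leaf [nat_lit 12299, nat_lit 2, nat_lit 5, nat_lit 4, nat_lit 5, nat_lit 4, nat_lit 0])) (TL.leaf [nat_lit 20497, nat_lit 5, nat_lit 6, nat_lit 5, nat_lit 6, nat_lit 3, nat_lit 5, nat_lit 6, nat_lit 5, nat_lit 6, nat_lit 5, nat_lit 6, nat_lit 5, nat_lit 6, nat_lit 5, nat_lit 2, nat_lit 6, nat_lit 5, nat_lit 6, nat_lit 3, nat_lit 5, nat_lit 6, nat_lit 5, nat_lit 6, nat_lit 5, nat_lit 6, nat_lit 5, nat_lit 6, nat_lit 2])))) (TL.node (TL.node (TL.node (TL.node (TL.leaf [nat_lit 18439, nat_lit 4, nat_lit 6, nat_lit 1, nat_lit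 6]) (TL.leaf [nat_lit 20501, nat_lit 5, nat_lit 6, nat_lit 3, nat_lit 5, nat_lit 6, nat_lit 5, nat_lit 6, nat_lit 5, nat_lit 6, nat_lit 5, nat_lit 6, nat_lit 5, nat_lit 2, nat_lit 6, nat_lit 5, nat_lit 6, nat_lit 3, nat_lit 5, nat_lit 6, nat_lit 5, nat_lit 6, nat_lit 5, nat_lit 6, nat_lit 5, nat_lit 6, nat_lit 2, nat_lit 5, nat_lit 6])) (TL.node (TL.leaf [nat_lit 22531, nat_lit 5, nat_lit 6, nat_lit 5, nat_lit 6, nat_lit 5, nat_lit 6, nat_lit 5, nat_lit 6, nat_lit 5, nat_lit 6, nat_lit 5, nat_lit 6, nat_lit 5, nat_lit 6, nat_lit 5, nat_lit 6, nat_lit 5, nat_lit 6, nat_lit 5, nat_lit 6, nat_lit 5, nat_lit 6, nat_lit 5, nat_lit 6, nat_lit 5, nat_lit 6]) (TL.leaf [nat_lit 12298, nat_lit 4, nat_lit 5, nat_lit 2, nat_lit 0, nat_lit 4, nat_lit 5]))) (TL.node (TL.node (TL.leaf [nat_lit 10244, nat_lit 1, nat_lit 5, nat_lit 0, nat_lit 5, nat_lit 0]) (TL.leaf [nat_lit 4099, nat_lit 4, nat_lit 0, nat_lit 4, nat_lit 0])) (TL.leaf [nat_lit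 20487, nat_lit 5, nat_lit 6, nat_lit 5, nat_lit 6, nat_lit 2, nat_lit 5, nat_lit 6, nat_lit 5, nat_lit 6, nat_lit 3, nat_lit 5, nat_lit 6, nat_lit 5, nat_lit 6, nat_lit 5, nat_lit 6, nat_lit 5, nat_lit 6, nat_lit 5, nat_lit 2, nat_lit 6, nat_lit 5, nat_lit 6, nat_lit 3, nat_lit 5, nat_lit 6, nat_lit 5, nat_lit 6]))) (TL.node (TL.node (TL.node (TL.leaf [nat_lit 2051, nat_lit 0, nat_lit 3, nat_lit 0, nat_lit 2]) (TL.leaf [nat_lit 16388, nat_lit 2, nat_lit 6, nat_lit 3, nat_lit 6, nat_lit 3, nat_lit 6])) (TL.leaf [nat_lit 16386, nat_lit 6, nat_lit 3, nat_lit 6, nat_lit 3, nat_lit 6, nat_lit 3])) (TL.node (TL.node (TL.leaf [nat_lit 16387, nat_lit 6, nat_lit 2, nat_lit 6, nat_lit 2, nat_lit 6, nat_lit 2]) (TL.leaf [nat_lit 12296, nat_lit 5, nat_lit 4, nat_lit 5, nat_lit 2, nat_lit 0, nat_lit 4])) (TL.leaf [nat_lit 10242, nat_lit 0, nat_lit 1, nat_lit 5, nat_lit 0, nat_lit 5]))))))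
noncomputable def W (i : ℕ) : List ℕ := TL.get W_t i
def WA_t : TL := (TL.leaf [nat_lit 0])
noncomputable def WA (i : ℕ) : List ℕ := TL.get WA_t i
noncomputable def row : ℕ → ℕ := hRow (nat_lit 350) (nat_lit 7) (nat_lit 6) (nat_lit 512) (nat_lit 64) (nat_lit 32768) (nat_lit 8192) (nat_lit 8192) (nat_lit 0) E X Pa inv (wfun (nat_lit 53) W_t)
noncomputable def aux : ℕ → ℕ := hAux (nat_lit 351) (nat_lit 7) (nat_lit 512) (nat_lit 32768) (nat_lit 8192) (nat_lit 2) (nat_lit 2) (nat_lit 8192) (nat_lit 0) E X J Pa inv WA_t.get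
theorem r0 : Nat.beq (rng row (nat_lit 0) (nat_lit 351)) (nat_lit 0) = true := by decide +kernel
theorem rows : ∀ i < 351, row i = 0 := by
  have h := zero_lt_zero row
  have h := zero_lt_add (a := (nat_lit 0)) (n := (nat_lit 351)) (b := (nat_lit 351)) h r0 rfl
  exact h
theorem auxs : ∀ i < 0, aux i = 0 := by
  have h := zero_lt_zero aux
  exact h
theorem closes.{u} : ClosesT.{u} inv rels 7 6 351 T :=
  hc_closes (N1 := (nat_lit 350)) rfl T_eq (by decide +kernel) rows auxs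
theorem T_inv : ∀ c < 351, ∀ j < 7, T j c < 351 ∧ T (inv j) (T j c) = c := 
  hc_inv (inv := inv) (N1 := (nat_lit 350)) rfl T_eq rows
end L3

namespace L5
def t0x : TN := (TN.leaf (nat_lit 72226))
def t1x : TN := (TN.leaf (nat_lit 89634))
def t2x : TN := (TN.leaf (nat_lit 124450))
def t3x : TN := (TN.leaf (nat_lit 131648))
def t4x : TN := (TN.leaf (nat_lit 107042))
def t5x : TN := (TN.leaf (nat_lit 52770))
def t6x : TN := (TN.leaf (nat_lit 54818))
def t7x : TN := (TN.leaf (nat_lit 51746))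
def t8x : TN := (TN.leaf (nat_lit 65601))
def t9x : TN := (TN.leaf (nat_lit 17513))
def tt : TN := (TN.node (TN.node (TN.node (TN.node t0x t8x) (TN.node t4x (TN.leaf (nat_lit 0)))) (TN.node (TN.node t2x (TN.leaf (nat_lit 0))) (TN.node t6x (TN.leaf (nat_lit 0))))) (TN.node (TN.node (TN.node t1x t9x) (TN.node t5x (TN.leaf (nat_lit 0)))) (TN.node (TN.node t3x (TN.leaf (nat_lit 0))) (TN.node t7x (TN.leaf (nat_lit 0))))))
noncomputable def T (j c : ℕ) : ℕ := getL tt (nat_lit 9) (nat_lit 1) j c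
noncomputable def E (j c : ℕ) : ℕ := getL tt (nat_lit 9) (nat_lit 511) j c
theorem T_eq (j c : ℕ) : T j c = E j c % 2 :=
  getL_mod (a := 1) (b := 9) _ _ (by norm_num) (by norm_num) (by norm_num) (by norm_num) j c
def rels : List (List ℕ) := [[nat_lit 1, nat_lit 2, nat_lit 2], [nat_lit 2, nat_lit 0, nat_lit 3, nat_lit 0], [nat_lit 0, nat_lit 4, nat_lit 0, nat_lit 4], [nat_lit 2, nat_lit 4, nat_lit 2, nat_lit 4], [nat_lit 0, nat_lit 3, nat_lit 5, nat_lit 0, nat_lit 3, nat_lit 5], [nat_lit 5, nat_lit 0, nat_lit 5, nat_lit 1, nat_lit 0], [nat_lit 5, nat_lit 4, nat_lit 5, nat_lit 4, nat_lit 0, nat_lit 3], [nat_lit 0, nat_lit 6, nat_lit 0, nat_lit 6], [nat_lit 2, nat_lit 6, nat_lit 2, nat_lit 6, nat_lit 2, nat_lit 6], [nat_lit 6, nat_lit 1, nat_lit 6, nat_lit 4], [nat_lit 6, nat_lit 5, nat_lit 6, nat_lit 5, nat_lit 6, nat_lit 5, nat_lit 6, nat_lit 2, nat_lit 5, nat_lit 6, nat_lit 5, nat_lit 6, nat_lit 3, nat_lit 5, nat_lit 6, nat_lit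 5, nat_lit 6, nat_lit 5, nat_lit 6, nat_lit 5, nat_lit 6, nat_lit 5, nat_lit 2, nat_lit 6, nat_lit 5, nat_lit 6, nat_lit 3, nat_lit 5], [nat_lit 6, nat_lit 5, nat_lit 6, nat_lit 5, nat_lit 6, nat_lit 5, nat_lit 6, nat_lit 5, nat_lit 6, nat_lit 5, nat_lit 6, nat_lit 5, nat_lit 6, nat_lit 5, nat_lit 6, nat_lit 5, nat_lit 6, nat_lit 5, nat_lit 6, nat_lit 5, nat_lit 6, nat_lit 5, nat_lit 6, nat_lit 5, nat_lit 6, nat_lit 5], [nat_lit 0, nat_lit 7, nat_lit 0, nat_lit 7], [nat_lit 4, nat_lit 7, nat_lit 4, nat_lit 7, nat_lit 4, nat_lit 7, nat_lit 4, nat_lit 7], [nat_lit 5, nat_lit 7, nat_lit 5, nat_lit 7], [nat_lit 7, nat_lit 2, nat_lit 7, nat_lit 3], [nat_lit 7, nat_lit 6, nat_lit 7, nat_lit 6, nat_lit 7, nat_lit 6, nat_lit 7, nat_lit 0, nat_lit 6], [nat_lit 7, nat_lit 4, nat_lit 7, nat_lit 6, nat_lit 2, nat_lit 5, nat_lit 7, nat_lit 6, nat_lit 7, nat_lit 4, nat_lit 7, nat_lit 6, nat_lit 5, nat_lit 2, nat_lit 6], [nat_lit 7, nat_lit 4,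 nat_lit 6, nat_lit 5, nat_lit 7, nat_lit 6, nat_lit 3, nat_lit 5, nat_lit 7, nat_lit 6, nat_lit 5, nat_lit 6, nat_lit 5, nat_lit 6, nat_lit 4, nat_lit 7, nat_lit 5, nat_lit 4, nat_lit 6, nat_lit 5, nat_lit 6, nat_lit 5, nat_lit 6, nat_lit 2, nat_lit 5], [nat_lit 7, nat_lit 4, nat_lit 6, nat_lit 5, nat_lit 6, nat_lit 3, nat_lit 7, nat_lit 6, nat_lit 5, nat_lit 6, nat_lit 7, nat_lit 5, nat_lit 6, nat_lit 7, nat_lit 5, nat_lit 6, nat_lit 5, nat_lit 6, nat_lit 7, nat_lit 0, nat_lit 2, nat_lit 5, nat_lit 6, nat_lit 5, nat_lit 6, nat_lit 5, nat_lit 6, nat_lit 5, nat_lit 6, nat_lit 3, nat_lit 5, nat_lit 6, nat_lit 5, nat_lit 6, nat_lit 5, nat_lit 6, nat_lit 3, nat_lit 6], [nat_lit 7, nat_lit 4, nat_lit 6, nat_lit 5, nat_lit 6, nat_lit 7, nat_lit 6, nat_lit 5, nat_lit 6, nat_lit 7, nat_lit 6, nat_lit 7, nat_lit 5, nat_lit 6, nat_lit 7, nat_lit 6, nat_lit 5, nat_lit 6, nat_lit 7, nat_lit 4, nat_lit 6, nat_lit 5, nat_lit 6], [nat_lit 9,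 nat_lit 9, nat_lit 0, nat_lit 2, nat_lit 5, nat_lit 6, nat_lit 5, nat_lit 6, nat_lit 5, nat_lit 0, nat_lit 6, nat_lit 5, nat_lit 6, nat_lit 5, nat_lit 6, nat_lit 5, nat_lit 6, nat_lit 5, nat_lit 2, nat_lit 6, nat_lit 5, nat_lit 4], [nat_lit 8, nat_lit 5, nat_lit 9, nat_lit 4, nat_lit 7, nat_lit 5, nat_lit 6, nat_lit 7, nat_lit 5, nat_lit 6, nat_lit 7, nat_lit 6, nat_lit 2, nat_lit 6, nat_lit 5, nat_lit 6, nat_lit 2, nat_lit 4, nat_lit 7, nat_lit 5, nat_lit 0], [nat_lit 8, nat_lit 6, nat_lit 9, nat_lit 0, nat_lit 4, nat_lit 5, nat_lit 6, nat_lit 7, nat_lit 6, nat_lit 7, nat_lit 4, nat_lit 5, nat_lit 6, nat_lit 5, nat_lit 6, nat_lit 5, nat_lit 7, nat_lit 6, nat_lit 5, nat_lit 7, nat_lit 6, nat_lit 5, nat_lit 6, nat_lit 4, nat_lit 5, nat_lit 6, nat_lit 7], [nat_lit 8, nat_lit 7, nat_lit 9, nat_lit 7, nat_lit 4, nat_lit 5, nat_lit 6, nat_lit 5, nat_lit 6, nat_lit 5, nat_lit 6, nat_lit 7, nat_lit 6, nat_lit 5, nat_lit 6, nat_lit 5,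 nat_lit 6, nat_lit 5, nat_lit 4, nat_lit 7]]
def inv (i : ℕ) : ℕ := Nat.land (Nat.shiftRight (nat_lit 0xa8976542310) (Nat.mul (nat_lit 4) i)) (nat_lit 15)
def X_t : TN := (TN.leaf (nat_lit 0))
noncomputable def X (i : ℕ) : ℕ := get9 X_t (nat_lit 1) (nat_lit 1) i
def Jp_t : TN := (TN.leaf (nat_lit 0))
noncomputable def Jp (i : ℕ) : ℕ := get9 Jp_t (nat_lit 1) (nat_lit 1) i
def J_t : TN := (TN.leaf (nat_lit 0))
noncomputable def J (k : ℕ) : ℕ := getV J_t Jp k
def Pa_t : TN := (TN.leaf (nat_lit 2624))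
noncomputable def Pa (i : ℕ) : ℕ := get9 Pa_t (nat_lit 6) (nat_lit 63) i
def W_t : TL := (TL.node (TL.node (TL.node (TL.leaf [nat_lit 49155, nat_lit 7, nat_lit 9, nat_lit 7, nat_lit 4, nat_lit 5, nat_lit 6, nat_lit 5, nat_lit 6, nat_lit 5, nat_lit 6, nat_lit 7, nat_lit 6, nat_lit 5, nat_lit 6, nat_lit 5, nat_lit 6, nat_lit 5, nat_lit 4, nat_lit 7, nat_lit 8]) (TL.leaf [nat_lit 32783, nat_lit 0, nat_lit 6, nat_lit 7, nat_lit 6, nat_lit 7, nat_lit 6, nat_lit 7, nat_lit 6, nat_lit 7])) (TL.node (TL.leaf [nat_lit 43052, nat_lit 9, nat_lit 4, nat_lit 5, nat_lit 6, nat_lit 3, nat_lit 5, nat_lit 6, nat_lit 5, nat_lit 6, nat_lit 5, nat_lit 6, nat_lit 5, nat_lit 6, nat_lit 0, nat_lit 5, nat_lit 6, nat_lit 5, nat_lit 6, nat_lit 5, nat_lit 3, nat_lit 0, nat_lit 8]) (TL.leaf [nat_lit 18439, nat_lit 4, nat_lit 6, nat_lit 1, nat_lit 6]))) (TL.node (TL.node (TL.leaf [nat_lit 45059, nat_lit 5, nat_lit 9, nat_lit 4, nat_lit 7, nat_lit 5, nat_lit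 6, nat_lit 7, nat_lit 5, nat_lit 6, nat_lit 7, nat_lit 6, nat_lit 2, nat_lit 6, nat_lit 5, nat_lit 6, nat_lit 2, nat_lit 4, nat_lit 7, nat_lit 5, nat_lit 0, nat_lit 8]) (TL.leaf [nat_lit 10247, nat_lit 1, nat_lit 0, nat_lit 5, nat_lit 0, nat_lit 5])) (TL.node (TL.leaf [nat_lit 47107, nat_lit 6, nat_lit 9, nat_lit 0, nat_lit 4, nat_lit 5, nat_lit 6, nat_lit 7, nat_lit 6, nat_lit 7, nat_lit 4, nat_lit 5, nat_lit 6, nat_lit 5, nat_lit 6, nat_lit 5, nat_lit 7, nat_lit 6, nat_lit 5, nat_lit 7, nat_lit 6, nat_lit 5, nat_lit 6, nat_lit 4, nat_lit 5, nat_lit 6, nat_lit 7, nat_lit 8]) (TL.leaf [nat_lit 12299, nat_lit 2, nat_lit 5, nat_lit 4, nat_lit 5, nat_lit 4, nat_lit 0]))))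
noncomputable def W (i : ℕ) : List ℕ := TL.get W_t i
def WA_t : TL := (TL.leaf [nat_lit 0])
noncomputable def WA (i : ℕ) : List ℕ := TL.get WA_t i
noncomputable def row : ℕ → ℕ := hRow (nat_lit 1) (nat_lit 10) (nat_lit 8) (nat_lit 2) (nat_lit 16) (nat_lit 32) (nat_lit 32) (nat_lit 32) (nat_lit 0) E X Pa inv (wfun (nat_lit 8) W_t)
noncomputable def aux : ℕ → ℕ := hAux (nat_lit 2) (nat_lit 10) (nat_lit 2) (nat_lit 32) (nat_lit 32) (nat_lit 2) (nat_lit 2) (nat_lit 32) (nat_lit 0) E X J Pa inv WA_t.get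
theorem r0 : Nat.beq (rng row (nat_lit 0) (nat_lit 2)) (nat_lit 0) = true := by decide +kernel
theorem rows : ∀ i < 2, row i = 0 := by
  have h := zero_lt_zero row
  have h := zero_lt_add (a := (nat_lit 0)) (n := (nat_lit 2)) (b := (nat_lit 2)) h r0 rfl
  exact h
theorem auxs : ∀ i < 0, aux i = 0 := by
  have h := zero_lt_zero aux
  exact h
theorem closes.{u} : ClosesT.{u} inv rels 10 8 2 T :=
  hc_closes (N1 := (nat_lit 1)) rfl T_eq (by decide +kernel) rows auxs
theorem T_inv : ∀ c < 2, ∀ j < 10, T j c < 2 ∧ T (inv j) (T j c) = c := 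
  hc_inv (inv := inv) (N1 := (nat_lit 1)) rfl T_eq rows
end L5

def rels : List (List ℕ) := [[nat_lit 1, nat_lit 2, nat_lit 2], [nat_lit 2, nat_lit 0, nat_lit 3, nat_lit 0], [nat_lit 0, nat_lit 4, nat_lit 0, nat_lit 4], [nat_lit 2, nat_lit 4, nat_lit 2, nat_lit 4], [nat_lit 0, nat_lit 3, nat_lit 5, nat_lit 0, nat_lit 3, nat_lit 5], [nat_lit 5, nat_lit 0, nat_lit 5, nat_lit 1, nat_lit 0], [nat_lit 5, nat_lit 4, nat_lit 5, nat_lit 4, nat_lit 0, nat_lit 3], [nat_lit 0, nat_lit 6, nat_lit 0, nat_lit 6], [nat_lit 2, nat_lit 6, nat_lit 2, nat_lit 6, nat_lit 2, nat_lit 6], [nat_lit 6, nat_lit 1, nat_lit 6, nat_lit 4], [nat_lit 6, nat_lit 5, nat_lit 6, nat_lit 5, nat_lit 6, nat_lit 5, nat_lit 6, nat_lit 2, nat_lit 5, nat_lit 6, nat_lit 5, nat_lit 6, nat_lit 3, nat_lit 5, nat_lit 6, nat_lit 5, nat_lit 6, nat_lit 5, nat_lit 6, nat_lit 5, nat_lit 6, nat_lit 5, nat_lit 2, nat_lit 6, nat_lit 5, nat_lit 6, nat_lit 3, nat_lit 5], [nat_lit 6,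 nat_lit 5, nat_lit 6, nat_lit 5, nat_lit 6, nat_lit 5, nat_lit 6, nat_lit 5, nat_lit 6, nat_lit 5, nat_lit 6, nat_lit 5, nat_lit 6, nat_lit 5, nat_lit 6, nat_lit 5, nat_lit 6, nat_lit 5, nat_lit 6, nat_lit 5, nat_lit 6, nat_lit 5, nat_lit 6, nat_lit 5, nat_lit 6, nat_lit 5], [nat_lit 0, nat_lit 7, nat_lit 0, nat_lit 7], [nat_lit 4, nat_lit 7, nat_lit 4, nat_lit 7, nat_lit 4, nat_lit 7, nat_lit 4, nat_lit 7], [nat_lit 5, nat_lit 7, nat_lit 5, nat_lit 7], [nat_lit 7, nat_lit 2, nat_lit 7, nat_lit 3], [nat_lit 7, nat_lit 6, nat_lit 7, nat_lit 6, nat_lit 7, nat_lit 6, nat_lit 7, nat_lit 0, nat_lit 6], [nat_lit 7, nat_lit 4, nat_lit 7, nat_lit 6, nat_lit 2, nat_lit 5, nat_lit 7, nat_lit 6, nat_lit 7, nat_lit 4, nat_lit 7, nat_lit 6, nat_lit 5, nat_lit 2, nat_lit 6], [nat_lit 7, nat_lit 4, nat_lit 6, nat_lit 5, nat_lit 7, nat_lit 6, nat_lit 3, nat_lit 5, nat_lit 7, nat_lit 6, nat_lit 5, nat_lit 6, nat_lit 5, nat_lit 6, nat_lit 4, nat_lit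 7, nat_lit 5, nat_lit 4, nat_lit 6, nat_lit 5, nat_lit 6, nat_lit 5, nat_lit 6, nat_lit 2, nat_lit 5], [nat_lit 7, nat_lit 4, nat_lit 6, nat_lit 5, nat_lit 6, nat_lit 3, nat_lit 7, nat_lit 6, nat_lit 5, nat_lit 6, nat_lit 7, nat_lit 5, nat_lit 6, nat_lit 7, nat_lit 5, nat_lit 6, nat_lit 5, nat_lit 6, nat_lit 7, nat_lit 0, nat_lit 2, nat_lit 5, nat_lit 6, nat_lit 5, nat_lit 6, nat_lit 5, nat_lit 6, nat_lit 5, nat_lit 6, nat_lit 3, nat_lit 5, nat_lit 6, nat_lit 5, nat_lit 6, nat_lit 5, nat_lit 6, nat_lit 3, nat_lit 6], [nat_lit 7, nat_lit 4, nat_lit 6, nat_lit 5, nat_lit 6, nat_lit 7, nat_lit 6, nat_lit 5, nat_lit 6, nat_lit 7, nat_lit 6, nat_lit 7, nat_lit 5, nat_lit 6, nat_lit 7, nat_lit 6, nat_lit 5, nat_lit 6, nat_lit 7, nat_lit 4, nat_lit 6, nat_lit 5, nat_lit 6], [nat_lit 9, nat_lit 9, nat_lit 0, nat_lit 2, nat_lit 5, nat_lit 6, nat_lit 5, nat_lit 6, nat_lit 5, nat_lit 0, nat_lit 6, nat_lit 5, nat_lit 6, nat_lit 5, nat_lit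 6, nat_lit 5, nat_lit 6, nat_lit 5, nat_lit 2, nat_lit 6, nat_lit 5, nat_lit 4], [nat_lit 8, nat_lit 5, nat_lit 9, nat_lit 4, nat_lit 7, nat_lit 5, nat_lit 6, nat_lit 7, nat_lit 5, nat_lit 6, nat_lit 7, nat_lit 6, nat_lit 2, nat_lit 6, nat_lit 5, nat_lit 6, nat_lit 2, nat_lit 4, nat_lit 7, nat_lit 5, nat_lit 0], [nat_lit 8, nat_lit 6, nat_lit 9, nat_lit 0, nat_lit 4, nat_lit 5, nat_lit 6, nat_lit 7, nat_lit 6, nat_lit 7, nat_lit 4, nat_lit 5, nat_lit 6, nat_lit 5, nat_lit 6, nat_lit 5, nat_lit 7, nat_lit 6, nat_lit 5, nat_lit 7, nat_lit 6, nat_lit 5, nat_lit 6, nat_lit 4, nat_lit 5, nat_lit 6, nat_lit 7], [nat_lit 8, nat_lit 7, nat_lit 9, nat_lit 7, nat_lit 4, nat_lit 5, nat_lit 6, nat_lit 5, nat_lit 6, nat_lit 5, nat_lit 6, nat_lit 7, nat_lit 6, nat_lit 5, nat_lit 6, nat_lit 5, nat_lit 6, nat_lit 5, nat_lit 4, nat_lit 7]]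
def inv (i : ℕ) : ℕ := Nat.land (Nat.shiftRight (nat_lit 0x8976542310) (Nat.mul (nat_lit 4) i)) (nat_lit 15)
theorem ub4 {Γ : Type} [Group Γ] {g : ℕ → Γ} (h1 : InvOK g inv 10) (h2 : ∀ w ∈ rels, ev g w = 1) : CardLE (gen g 4) 8 :=
  tw h1 h2 L1.closes (by decide +kernel) (cardLE_gen_zero g)
theorem ub6 {Γ : Type} [Group Γ] {g : ℕ → Γ} (h1 : InvOK g inv 10) (h2 : ∀ w ∈ rels, ev g w = 1) : CardLE (gen g 6) 32 :=
  tw h1 h2 L2.closes (by decide +kernel) (ub4 h1 h2)
theorem ub7 {Γ : Type} [Group Γ] {g : ℕ → Γ} (h1 : InvOK g inv 10) (h2 : ∀ w ∈ rels, ev g w = 1) : CardLE (gen g 7) 11232 :=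
  tw h1 h2 L3.closes (by decide +kernel) (ub6 h1 h2)
theorem ub8 {Γ : Type} [Group Γ] {g : ℕ → Γ} (h1 : InvOK g inv 10) (h2 : ∀ w ∈ rels, ev g w = 1) : CardLE (gen g 8) 17971200 :=
  tw h1 h2 L4.closes (by decide +kernel) (ub7 h1 h2)
theorem ub10 {Γ : Type} [Group Γ] {g : ℕ → Γ} (h1 : InvOK g inv 10) (h2 : ∀ w ∈ rels, ev g w = 1) : CardLE (gen g 10) 35942400 :=
  tw h1 h2 L5.closes (by decide +kernel) (ub8 h1 h2)

end Cfsg.Agent.Ct.T2
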