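import Cfsg.Agent.Lib.Cert.T2.XD

set_option autoImplicit false
set_option maxRecDepth 100000

namespace Cfsg.Agent.Ct.T2

open Cfsg.Agent.PC

theorem uc4 : Nat.beq (rng fv (nat_lit 4) (nat_lit 2)) (nat_lit 0) = true := by decide +kernel
theorem uc6 : Nat.beq (rng fv (nat_lit 6) (nat_lit 2)) (nat_lit 0) = true := by decide +kernel
theorem ud0 : Nat.beq (rng fr (nat_lit 0) (nat_lit 6)) (nat_lit 0) = true := by decide +kernel
theorem ud6 : Nat.beq (rng fr (nat_lit 6) (nat_lit 4)) (nat_lit 0) = true := by decide +kernel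
theorem ud10 : Nat.beq (rng fr (nat_lit 10) (nat_lit 1)) (nat_lit 0) = true := by decide +kernel
theorem ud11 : Nat.beq (rng fr (nat_lit 11) (nat_lit 3)) (nat_lit 0) = true := by decide +kernel
theorem ud14 : Nat.beq (rng fr (nat_lit 14) (nat_lit 4)) (nat_lit 0) = true := by decide +kernel

end Cfsg.Agent.Ct.T2
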