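import Cfsg.Agent.Lib.Cert.T2.XD

set_option autoImplicit false
set_option maxRecDepth 100000

namespace Cfsg.Agent.Ct.T2

open Cfsg.Agent.PC

theorem ud18 : Nat.beq (rng fr (nat_lit 18) (nat_lit 1)) (nat_lit 0) = true := by decide +kernel
theorem ud19 : Nat.beq (rng fr (nat_lit 19) (nat_lit 1)) (nat_lit 0) = true := by decide +kernel
theorem ud20 : Nat.beq (rng fr (nat_lit 20) (nat_lit 1)) (nat_lit 0) = true := by decide +kernel
theorem ud21 : Nat.beq (rng fr (nat_lit 21) (nat_lit 1)) (nat_lit 0) = true := by decide +kernel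
theorem ud22 : Nat.beq (rng fr (nat_lit 22) (nat_lit 1)) (nat_lit 0) = true := by decide +kernel
theorem ud23 : Nat.beq (rng fr (nat_lit 23) (nat_lit 1)) (nat_lit 0) = true := by decide +kernel
theorem ud24 : Nat.beq (rng fr (nat_lit 24) (nat_lit 6)) (nat_lit 0) = true := by decide +kernel
theorem ud30 : Nat.beq (rng fr (nat_lit 30) (nat_lit 5)) (nat_lit 0) = true := by decide +kernel

end Cfsg.Agent.Ct.T2
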