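import Cfsg.Agent.Lib.Cert.T2.XD

set_option autoImplicit false
set_option maxRecDepth 100000

namespace Cfsg.Agent.Ct.T2

open Cfsg.Agent.PC

theorem ue0 : Nat.beq (rng fg (nat_lit 0) (nat_lit 8)) (nat_lit 0) = true := by decide +kernel
theorem hq0 : M 18 = Lie.chevF4.x (ZMod 2) 33 1 := by decide +kernel
theorem hq1 : M 19 = Lie.chevF4.x (ZMod 2) 24 1 := by decide +kernel
theorem hq2 : M 20 = Lie.chevF4.x (ZMod 2) 14 1 := by decide +kernel
theorem hq3 : M 21 = Lie.chevF4.x (ZMod 2) 23 1 := by decide +kernel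
theorem hq4 : M 22 = Lie.chevF4.x (ZMod 2) 27 1 := by decide +kernel
theorem hq5 : M 23 = Lie.chevF4.x (ZMod 2) 25 1 := by decide +kernel
theorem hq6 : M 24 = Lie.chevF4.x (ZMod 2) 28 1 := by decide +kernel

end Cfsg.Agent.Ct.T2
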