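import Cfsg.Agent.Lib.Cert.T2.XD

set_option autoImplicit false
set_option maxRecDepth 100000

namespace Cfsg.Agent.Ct.T2

open Cfsg.Agent.PC

theorem hq7 : M 25 = Lie.chevF4.x (ZMod 2) 30 1 := by decide +kernel
theorem hq8 : M 26 = Lie.chevF4.x (ZMod 2) 20 1 := by decide +kernel
theorem hq9 : M 27 = Lie.chevF4.x (ZMod 2) 22 1 := by decide +kernel
theorem hq10 : M 28 = Lie.chevF4.x (ZMod 2) 19 1 := by decide +kernel
theorem hq11 : M 29 = Lie.chevF4.x (ZMod 2) 17 1 := by decide +kernel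

end Cfsg.Agent.Ct.T2
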