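import Cfsg.Agent.Lib.Cert.T2.XR0
import Cfsg.Agent.Lib.Cert.T2.XR1
import Cfsg.Agent.Lib.Cert.T2.XR2
import Cfsg.Agent.Lib.Cert.T2.XR3
import Cfsg.Agent.Lib.Cert.T2.XR4
import Cfsg.Agent.Lib.Cert.T2.XR5

set_option autoImplicit false
set_option maxRecDepth 100000

namespace Cfsg.Agent.Ct.T2

open Cfsg.Agent.PC

open Cfsg.Agent.Fi Cfsg.Agent.Ct
theorem hu : ∀ i < 8, fu i = 0 := by
  have h := zero_lt_zero fu
  have h := zero_lt_add (a := (nat_lit 0)) (n := (nat_lit 8)) (b := (nat_lit 8)) h ua0 rfl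
  exact h
theorem hx : ∀ i < 10, fx i = 0 := by
  have h := zero_lt_zero fx
  have h := zero_lt_add (a := (nat_lit 0)) (n := (nat_lit 3)) (b := (nat_lit 3)) h uf0 rfl
  have h := zero_lt_add (a := (nat_lit 3)) (n := (nat_lit 2)) (b := (nat_lit 5)) h uf3 rfl
  have h := zero_lt_add (a := (nat_lit 5)) (n := (nat_lit 2)) (b := (nat_lit 7)) h uf5 rfl
  have h := zero_lt_add (a := (nat_lit 7)) (n := (nat_lit 2)) (b := (nat_lit 9)) h uf7 rfl
  have h := zero_lt_add (a := (nat_lit 9)) (n := (nat_lit 1)) (b := (nat_lit 10)) h uf9 rfl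
  exact h
theorem hv : ∀ i < 8, fv i = 0 := by
  have h := zero_lt_zero fv
  have h := zero_lt_add (a := (nat_lit 0)) (n := (nat_lit 2)) (b := (nat_lit 2)) h uc0 rfl
  have h := zero_lt_add (a := (nat_lit 2)) (n := (nat_lit 2)) (b := (nat_lit 4)) h uc2 rfl
  have h := zero_lt_add (a := (nat_lit 4)) (n := (nat_lit 2)) (b := (nat_lit 6)) h uc4 rfl
  have h := zero_lt_add (a := (nat_lit 6)) (n := (nat_lit 2)) (b := (nat_lit 8)) h uc6 rfl
  exact h
theorem hr : ∀ i < 35, fr i = 0 := by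
  have h := zero_lt_zero fr
  have h := zero_lt_add (a := (nat_lit 0)) (n := (nat_lit 6)) (b := (nat_lit 6)) h ud0 rfl
  have h := zero_lt_add (a := (nat_lit 6)) (n := (nat_lit 4)) (b := (nat_lit 10)) h ud6 rfl
  have h := zero_lt_add (a := (nat_lit 10)) (n := (nat_lit 1)) (b := (nat_lit 11)) h ud10 rfl
  have h := zero_lt_add (a := (nat_lit 11)) (n := (nat_lit 3)) (b := (nat_lit 14)) h ud11 rfl
  have h := zero_lt_add (a := (nat_lit 14)) (n := (nat_lit 4)) (b := (nat_lit 18)) h ud14 rfl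
  have h := zero_lt_add (a := (nat_lit 18)) (n := (nat_lit 1)) (b := (nat_lit 19)) h ud18 rfl
  have h := zero_lt_add (a := (nat_lit 19)) (n := (nat_lit 1)) (b := (nat_lit 20)) h ud19 rfl
  have h := zero_lt_add (a := (nat_lit 20)) (n := (nat_lit 1)) (b := (nat_lit 21)) h ud20 rfl
  have h := zero_lt_add (a := (nat_lit 21)) (n := (nat_lit 1)) (b := (nat_lit 22)) h ud21 rfl
  have h := zero_lt_add (a := (nat_lit 22)) (n := (nat_lit 1)) (b := (nat_lit 23)) h ud22 rfl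
  have h := zero_lt_add (a := (nat_lit 23)) (n := (nat_lit 1)) (b := (nat_lit 24)) h ud23 rfl
  have h := zero_lt_add (a := (nat_lit 24)) (n := (nat_lit 6)) (b := (nat_lit 30)) h ud24 rfl
  have h := zero_lt_add (a := (nat_lit 30)) (n := (nat_lit 5)) (b := (nat_lit 35)) h ud30 rfl
  exact h
theorem hg : ∀ i < 8, fg i = 0 := by
  have h := zero_lt_zero fg
  have h := zero_lt_add (a := (nat_lit 0)) (n := (nat_lit 8)) (b := (nat_lit 8)) h ue0 rfl
  exact h

end Cfsg.Agent.Ct.T2
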