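import Cfsg.Agent.Lib.Cert.T2.X
import Cfsg.Agent.Lib.Cert.T2.M2
import Cfsg.Agent.S1068

set_option autoImplicit false
set_option maxRecDepth 100000

namespace Cfsg.Agent.Ct.T2

open Cfsg.Agent.PC Cfsg.Agent.Fi Cfsg.Agent.Ct Cfsg.Lie Subgroup

abbrev H : Subgroup (GL chevF4.Idx (ZMod 2)) := twistedF4 (ZMod 2) 1

def wl (j : ℕ) : List (ℕ × ZMod 2) := [[(33, 1), (24, 1)], [(14, 1), (23, 1)], [(27, 1), (25, 1), (28, 1), (30, 0)],
  [(27, 0), (25, 0), (28, 1), (30, 1)], [(27, 1), (25, 1), (28, 0), (30, 1)], [(20, 1), (22, 1), (19, 1), (17, 0)],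
  [(20, 0), (22, 0), (19, 1), (17, 1)], [(20, 1), (22, 1), (19, 0), (17, 1)]].getD j []

theorem hw : ∀ j < 8, chevF4.wordMat (ZMod 2) (wl j) = M (10 + j) := fun j hj => by
  have t := lm.eq (hg j hj)
  rw [evM, evM, one_mul] at t
  refine Eq.trans ?_ t
  interval_cases j
  · show _ = evM M [19, 18]; simp [wl, ChevalleyDatum.wordMat, evM, hq0, hq1]
  · show _ = evM M [21, 20]; simp [wl, ChevalleyDatum.wordMat, evM, hq2, hq3]
  · show _ = evM M [24, 23, 22]; simp [wl, ChevalleyDatum.wordMat, evM, x_zero, hq4, hq5, hq6, mul_assoc]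
  · show _ = evM M [25, 24]; simp [wl, ChevalleyDatum.wordMat, evM, x_zero, hq6, hq7]
  · show _ = evM M [25, 23, 22]; simp [wl, ChevalleyDatum.wordMat, evM, x_zero, hq4, hq5, hq7, mul_assoc]
  · show _ = evM M [28, 27, 26]; simp [wl, ChevalleyDatum.wordMat, evM, x_zero, hq8, hq9, hq10, mul_assoc]
  · show _ = evM M [29, 28]; simp [wl, ChevalleyDatum.wordMat, evM, x_zero, hq10, hq11]
  · show _ = evM M [29, 27, 26]; simp [wl, ChevalleyDatum.wordMat, evM, x_zero, hq8, hq9, hq11, mul_assoc]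

theorem wl_mem : ∀ j < 8, wl j ∈ f4Words (ZMod 2) 1 := by
  unfold f4Words
  simp only [Set.mem_union, Set.mem_setOf_eq]
  decide +kernel

theorem mem_wl {w : List (ℕ × ZMod 2)} (h : w ∈ f4Words (ZMod 2) 1) : (∀ a ∈ w, a.2 = 0) ∨ ∃ j < 8, w = wl j := by
  rcases h with ⟨t, rfl | rfl⟩ | ⟨t, u, rfl | rfl⟩ <;> revert t <;> (try revert u) <;> decide +kernel

noncomputable def h (j : ℕ) : H := ev (fun i => PC.sub H (uL (RingHom.id _) M nv) (10 + i)) (Wx j)

theorem hh : ∀ j < 10, mat H (h j) = (M j).map (RingHom.id _) :=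
  lm.wds _ (lin_of hu) (lin_of hx) fun j hj _ e => subset_closure ⟨_, wl_mem j hj, e.trans (hw j hj).symm⟩

theorem wm1 {D : ChevalleyDatum} {w : List (ℕ × ZMod 2)} (h : ∀ a ∈ w, a.2 = 0) : D.wordMat (ZMod 2) w = 1 := List.prod_eq_one fun x hx => by
  obtain ⟨a, ha, rfl⟩ := List.mem_map.mp hx
  rw [h a ha, x_zero]

theorem toph : gen h 10 = ⊤ := by
  refine lm.top (lo := 10) (k := 8) (V := Vx) hh (closure_diff_one _).symm hv fun u hu => ?_
  obtain ⟨⟨w, h1, h2⟩, h3⟩ := hu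
  rcases mem_wl h1 with h4 | ⟨j, hj, e⟩
  · exact absurd (Units.ext (h2.trans (wm1 h4))) h3
  · exact ⟨j, hj, h2.trans (e ▸ hw j hj)⟩

theorem cardH : Nat.card H = 35942400 := S1068.result (K := ZMod 2) (m := 0) rfl

theorem exe : ∃ e : H ≃* T2b.P2, ∀ j < 10, e (h j) = T2b.al j := by
  have t : ∀ w, (∃ i < 35, Rx i = w) → ev h w = 1 := fun w ⟨i, hi, e⟩ => e ▸ lm.one hh (hr i hi)
  have l : ∀ w ∈ rels, ∀ j ∈ w, j < 10 := by decide +kernel
  have i2 : InvOK T2b.al inv 10 := pr.2.sub le_rfl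
  obtain ⟨φ, hφ⟩ := hom_ub toph (inv := inv) (rels := rels) (fun _ _ _ a b => cardH ▸ ub10 a b)
    (fun j hj => ⟨(pr.2 j hj).1, eq_inv_of_mul_eq_one_left (by
      simpa using t _ ((by decide +kernel : ∀ j < 10, ∃ i < 35, Rx i = [j, inv j]) j hj))⟩)
    (fun w hw => t _ ((by decide +kernel : ∀ w ∈ rels, ∃ i < 35, Rx i = w) w hw)) l (h := T2b.al)
    (fun j hj => by simp [(i2 j hj).2]) (rels_sub l rl0)
  exact ⟨.ofBijective φ ((Nat.bijective_iff_surjective_and_card _).mpr ⟨MonoidHom.range_eq_top.mp (eq_top_iff.mpr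
    ((gen_sub_top rfl : gen T2b.al 10 = ⊤) ▸ gen_le fun j hj => ⟨_, hφ j hj⟩)), cardH.trans T2b.card.symm⟩), hφ⟩

theorem main : ∃ φ : P →* H, Function.Injective φ ∧ φ.range = commutator H ∧ φ.range.index = 2 ∧ ∀ t : H, t ^ 2 = 1 → t ∈ φ.range := by
  obtain ⟨e, -⟩ := exe
  have l : gen pf 8 ≤ gen pf 10 := gen_le fun j hj => mem_gen _ (by omega)
  let φ : P →* H := e.symm.toMonoidHom.comp (inclusion l)
  have i : Function.Injective φ := e.symm.injective.comp (inclusion_injective l)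
  have k : ∀ ψ : P →* T2b.P2, Function.Injective ψ → ψ.range.index = 2 := fun ψ i => by
    have := ψ.range.index_mul_card
    rw [← Nat.card_congr (MonoidHom.ofInjective i).toEquiv, card, T2b.card] at this
    omega
  have i2 : φ.range.index = 2 := by
    have := φ.range.index_mul_card
    rw [← Nat.card_congr (MonoidHom.ofInjective i).toEquiv, card, cardH] at this
    omega
  refine ⟨φ, i, le_antisymm (range_le ctr φ) (commutator_le.mpr fun a _ b _ => ?_), i2, fun t ht => ?_⟩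
  · rw [commutatorElement_def]
    simp only [mul_mem_iff_of_index_two i2, inv_mem_iff]
    tauto
  · have := normal_of_index_eq_two (k _ (inclusion_injective l))
    have s : gen T2b.al 8 ≤ (inclusion l).range := gen_le fun j hj =>
      ⟨al j, Subtype.ext ((coe_sub (L := gen pf 8) (mem_gen pf hj)).trans (coe_sub (L := gen pf 10) (mem_gen pf (by omega))).symm)⟩
    obtain ⟨x, hx⟩ := T2b.md.sq (r := 11) (Z := T2b.Zs) T2b.sy le_rfl T2b.h2 (L := (inclusion l).range) (T2b.lw.trans s) (t := e t) (by rw [← map_pow, ht, map_one])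
    exact ⟨x, e.symm_apply_eq.mpr hx⟩

theorem iso : Nonempty (P ≃* TitsGroup) :=
  let ⟨_, i, e, _⟩ := main
  ⟨(MonoidHom.ofInjective i).trans (MulEquiv.subgroupCongr e)⟩

end Cfsg.Agent.Ct.T2
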